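import Groth.Agent.EtModD.K571.Cpt
import Groth.Agent.PerfA.Devissage
import Groth.Agent.PerfA.ProjHom
import Groth.Agent.PerfA.CohomIn
import Mathlib.Algebra.Homology.DerivedCategory.KProjective
import Mathlib.Algebra.Homology.Embedding.CochainComplex
import Mathlib.RingTheory.Flat.EquationalCriterion
import Mathlib.Algebra.Category.ModuleCat.Projective

/-!
# Bounded complexes: general lemmas

* `cc_of_bounded`: a bounded complex whose terms are compact is compact;
* `exists_retract_opcycles`: if `F` is a retract in the derived category of `L`, both K-projective, and `L.X a = 0`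
  then the cokernel of `F.X (a - 1) ⟶ F.X a` is a retract of `F.X (a + 1)`;
* `exists_truncGE`: brutal description of the canonical truncation.
-/

set_option autoImplicit false

universe u w v u'

open CategoryTheory CategoryTheory.Limits CategoryTheory.Abelian

namespace K571.BddG

open K571.Cpt

section Dev

variable {A : Type u'} [Category.{v} A] [Abelian A] [HasDerivedCategory.{w} A]
  [HasCoproducts.{w} (DerivedCategory A)]

theorem cc_single {M : A} (h : CpA M) (n : ℤ) :
    CC (DerivedCategory A) ((DerivedCategory.singleFunctor A n).obj M) := by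
  have h1 : CC (DerivedCategory A) (((DerivedCategory.singleFunctor A 0).obj M)⟦-n⟧) :=
    (CC (DerivedCategory A)).le_shift (-n) _ h
  exact (CC (DerivedCategory A)).prop_of_iso
    (((DerivedCategory.singleFunctors A).shiftIso (-n) n 0 (by lia)).app M) h1

/-- A bounded complex with compact terms is compact. -/
theorem cc_of_bounded (E : CochainComplex A ℤ) (a b : ℤ) (hE : ∀ i, i < a ∨ b < i → IsZero (E.X i))
    (h : ∀ i, CpA (E.X i)) : CC (DerivedCategory A) (DerivedCategory.Q.obj E) :=
  Groth.Agent.PerfA.Devissage.devissage (CC (DerivedCategory A))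
    (fun e h => (CC (DerivedCategory A)).prop_of_iso e h)
    (fun _ hT h1 h3 => (CC (DerivedCategory A)).ext_of_isTriangulatedClosed₂ _ hT h1 h3)
    (fun _ hX => Groth.Agent.CohtopA.Compact.isCompactObject_zero hX) E a b hE
    (fun i _ _ => cc_single (h i) i)

end Dev

section Retr

variable {A : Type u'} [Category.{v} A] [Abelian A] [HasDerivedCategory.{w} A]

/-- Chain maps out of a K-projective complex which agree in the derived category are homotopic. -/
theorem homotopy_of_eq {P Q : CochainComplex A ℤ} [P.IsKProjective]
    (x y : P ⟶ Q) (h : DerivedCategory.Q.map x = DerivedCategory.Q.map y) :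
    Nonempty (Homotopy x y) := by
  refine ⟨HomotopyCategory.homotopyOfEq _ _ ?_⟩
  apply (CochainComplex.IsKProjective.Qh_map_bijective P
    ((HomotopyCategory.quotient _ _).obj Q)).injective
  have h1 := (DerivedCategory.quotientCompQhIso A).hom.naturality x
  have h2 := (DerivedCategory.quotientCompQhIso A).hom.naturality y
  rw [h, ← h2] at h1
  exact (cancel_mono _).mp h1

omit [HasDerivedCategory.{w} A] in
/-- If the identity of `F` is homotopic to a map vanishing in degree `a` then the cokernel of `d^{a-1}` is a retract
of `F.X (a + 1)`. -/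
theorem retract_of_homotopy {F : CochainComplex A ℤ} (g : F ⟶ F) (h : Homotopy (𝟙 F) g) (a : ℤ)
    (hg : g.f a = 0) : Nonempty (Retract (F.opcycles a) (F.X (a + 1))) := by
  have h1 : F.d a (a + 1) ≫ h.hom (a + 1) a + h.hom a (a - 1) ≫ F.d (a - 1) a = 𝟙 (F.X a) := by
    have h2 := h.comm a
    rw [hg, add_zero, dNext_eq _ (show (ComplexShape.up ℤ).Rel a (a + 1) by simp),
      prevD_eq _ (show (ComplexShape.up ℤ).Rel (a - 1) a by simp)] at h2
    exact h2.symm
  refine ⟨⟨F.fromOpcycles a (a + 1), h.hom (a + 1) a ≫ F.pOpcycles a, ?_⟩⟩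
  rw [← cancel_epi (F.pOpcycles a), HomologicalComplex.p_fromOpcycles_assoc, Category.comp_id, ← Category.assoc,
    eq_sub_of_add_eq h1, Preadditive.sub_comp, Category.id_comp, Category.assoc,
    HomologicalComplex.d_pOpcycles, comp_zero, sub_zero]

/-- If `F` is a retract of `L` in the derived category, both K-projective, `L.X a = 0`, then `F.opcycles a` is a retract
of `F.X (a + 1)`. -/
theorem exists_retract_opcycles {F L : CochainComplex A ℤ} [F.IsKProjective] [L.IsKProjective]
    (r : Retract (DerivedCategory.Q.obj F) (DerivedCategory.Q.obj L)) (a : ℤ) (ha : IsZero (L.X a)) :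
    Nonempty (Retract (F.opcycles a) (F.X (a + 1))) := by
  obtain ⟨i, hi⟩ := Groth.Agent.PerfA.ProjHom.exists_Q_map r.i
  obtain ⟨p, hp⟩ := Groth.Agent.PerfA.ProjHom.exists_Q_map r.r
  obtain ⟨h⟩ := homotopy_of_eq (𝟙 F) (i ≫ p) (by
    rw [CategoryTheory.Functor.map_id, CategoryTheory.Functor.map_comp, hi, hp, r.retract])
  exact retract_of_homotopy _ h a (by rw [HomologicalComplex.comp_f, ha.eq_of_tgt (i.f a) 0, zero_comp])

end Retr

section MapRetr

variable {A : Type u'} [Category.{v} A] [Abelian A] [HasDerivedCategory.{w} A]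

/-- Cohomology of a retract vanishes if the one of the object does. -/
theorem isZero_homology_of_retract {K L : DerivedCategory A} (r : Retract K L) (n : ℤ)
    (h : IsZero ((DerivedCategory.homologyFunctor A n).obj L)) :
    IsZero ((DerivedCategory.homologyFunctor A n).obj K) := by
  have h1 := (r.map (DerivedCategory.homologyFunctor A n)).retract
  rw [IsZero.iff_id_eq_zero, ← h1, h.eq_of_tgt (r.map (DerivedCategory.homologyFunctor A n)).i 0, zero_comp]

/-- A complex which is a retract of `L` in the derived category is exact where `L` vanishes. -/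
theorem exactAt_of_retract {F L : CochainComplex A ℤ} {K : DerivedCategory A} (e : DerivedCategory.Q.obj F ≅ K)
    (r : Retract K (DerivedCategory.Q.obj L)) (i : ℤ) (h : IsZero (L.X i)) : F.ExactAt i := by
  have h1 : IsZero (L.homology i) :=
    (HomologicalComplex.exactAt_iff_isZero_homology _ _).1 (ShortComplex.exact_of_isZero_X₂ (L.sc i) h)
  have h2 : IsZero ((DerivedCategory.homologyFunctor A i).obj (DerivedCategory.Q.obj L)) :=
    h1.of_iso ((DerivedCategory.homologyFunctorFactors A i).app L)
  have h3 := isZero_homology_of_retract r i h2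
  refine (HomologicalComplex.exactAt_iff_isZero_homology _ _).2 ?_
  exact h3.of_iso (((DerivedCategory.homologyFunctorFactors A i).app F).symm ≪≫
    (DerivedCategory.homologyFunctor A i).mapIso e)

universe w₂ v₂ u₂

variable {B : Type u₂} [Category.{v₂} B] [Abelian B] (T : A ⥤ B) [T.Additive] [PreservesFiniteLimits T]
  [PreservesFiniteColimits T]

attribute [local instance] HasDerivedCategory.standard in
/-- The version of `exists_retract_opcycles` after applying an exact functor making all the terms projective. -/
theorem exists_retract_opcycles_map {F L : CochainComplex A ℤ} (b : ℤ) (hF : ∀ i > b, IsZero (F.X i))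
    (hL : ∀ i > b, IsZero (L.X i)) (hFp : ∀ i, Projective (T.obj (F.X i))) (hLp : ∀ i, Projective (T.obj (L.X i)))
    (r : Retract (DerivedCategory.Q.obj F) (DerivedCategory.Q.obj L)) (a : ℤ) (ha : IsZero (L.X a)) :
    Nonempty (Retract (T.obj (F.opcycles a)) (T.obj (F.X (a + 1)))) := by
  let T' := T.mapHomologicalComplex (ComplexShape.up ℤ)
  have h1 : CochainComplex.IsStrictlyLE (T'.obj F) b := by
    rw [CochainComplex.isStrictlyLE_iff]
    exact fun i hi => T.map_isZero (hF i hi)
  have h2 : CochainComplex.IsStrictlyLE (T'.obj L) b := by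
    rw [CochainComplex.isStrictlyLE_iff]
    exact fun i hi => T.map_isZero (hL i hi)
  have h3 : ∀ i, Projective ((T'.obj F).X i) := hFp
  have h4 : ∀ i, Projective ((T'.obj L).X i) := hLp
  have h5 : CochainComplex.IsKProjective (T'.obj F) := CochainComplex.isKProjective_of_projective _ b
  have h6 : CochainComplex.IsKProjective (T'.obj L) := CochainComplex.isKProjective_of_projective _ b
  let r' : Retract (DerivedCategory.Q.obj (T'.obj F)) (DerivedCategory.Q.obj (T'.obj L)) :=
    { i := (T.mapDerivedCategoryFactors.app F).inv ≫ T.mapDerivedCategory.map r.i ≫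
        (T.mapDerivedCategoryFactors.app L).hom
      r := (T.mapDerivedCategoryFactors.app L).inv ≫ T.mapDerivedCategory.map r.r ≫
        (T.mapDerivedCategoryFactors.app F).hom
      retract := by
        have h := congrArg T.mapDerivedCategory.map r.retract
        rw [CategoryTheory.Functor.map_comp, CategoryTheory.Functor.map_id] at h
        simp only [Category.assoc, Iso.hom_inv_id_assoc]
        rw [reassoc_of% h]
        exact Iso.inv_hom_id _ }
  obtain ⟨s⟩ := exists_retract_opcycles r' a (T.map_isZero ha)
  exact ⟨(Retract.ofIso ((F.sc a).mapOpcyclesIso T).symm).trans s⟩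

end MapRetr

section Trunc

variable {A : Type u'} [Category.{v} A] [Abelian A] [HasDerivedCategory.{w} A]

/-- The canonical truncation of a bounded above complex, exact in degrees below `a`. -/
theorem exists_trunc (F : CochainComplex A ℤ) (a b : ℤ) (hF : ∀ i > b, IsZero (F.X i))
    (hex : ∀ i < a, F.ExactAt i) (P : A → Prop) (hiso : ∀ {M N : A}, (M ≅ N) → P M → P N)
    (hz : ∀ M : A, IsZero M → P M) (hP : ∀ i, P (F.X i)) (hop : P (F.opcycles a)) :
    ∃ (C : CochainComplex A ℤ) (a' b' : ℤ), (∀ i, i < a' ∨ b' < i → IsZero (C.X i)) ∧ (∀ i, P (C.X i)) ∧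
      Nonempty (DerivedCategory.Q.obj C ≅ DerivedCategory.Q.obj F) := by
  have hge : F.IsGE a := by
    rw [CochainComplex.isGE_iff]
    exact hex
  have hq : QuasiIso (F.πTruncGE a) := (CochainComplex.quasiIso_πTruncGE_iff F a).2 hge
  have hz0 : ∀ i < a, IsZero ((F.truncGE a).X i) := fun i hi =>
    CochainComplex.isZero_of_isStrictlyGE (F.truncGE a) a i hi
  refine ⟨F.truncGE a, a, max a b, ?_, ?_, ?_⟩
  · rintro i (hi | hi)
    · exact hz0 i hi
    · exact (hF i (lt_of_le_of_lt (le_max_right _ _) hi)).of_iso
        (F.truncGEXIso a i (lt_of_le_of_lt (le_max_left _ _) hi))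
  · intro i
    rcases lt_trichotomy i a with hi | rfl | hi
    · exact hz _ (hz0 i hi)
    · exact hiso (F.truncGEXIsoOpcycles i).symm hop
    · exact hiso (F.truncGEXIso a i hi).symm (hP i)
  · have : IsIso (DerivedCategory.Q.map (F.πTruncGE a)) := inferInstance
    exact ⟨(asIso (DerivedCategory.Q.map (F.πTruncGE a))).symm⟩

end Trunc

section Proj

variable {A : Type u'} [Category.{v} A] [Abelian A]

attribute [local instance] Abelian.hasFiniteBiproducts in
/-- Finite direct sums of projectives are projective. -/
theorem projective_biproduct {ι : Type} [Finite ι] (f : ι → A) (hf : ∀ i, Projective (f i)) :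
    Projective (⨁ f) where
  factors g e _ := ⟨biproduct.desc fun b => Projective.factorThru (biproduct.ι f b ≫ g) e, by
    ext b
    simp⟩

/-- Finite flat modules over a Noetherian ring are projective. -/
theorem projective_of_finite_flat {R : Type v} [CommRing R] [IsNoetherianRing R] (M : ModuleCat.{v} R)
    (h1 : Module.Finite R M) (h2 : Module.Flat R M) : Projective M := by
  have h3 : Module.FinitePresentation R M := Module.finitePresentation_of_finite R M
  have h4 : Module.Projective R M := Module.Flat.projective_of_finitePresentation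
  exact (IsProjective.iff_projective M).1 h4

/-- Projective objects are flat modules. -/
theorem flat_of_projective {R : Type v} [CommRing R] (M : ModuleCat.{v} R) (h : Projective M) : Module.Flat R M := by
  have h1 : Module.Projective R M := (IsProjective.iff_projective M).2 h
  infer_instance

end Proj

section Yon

variable {A : Type u'} [Category.{v} A] [Abelian A] [HasExt.{v} A]

/-- `Hom(E, -)` commutes with direct sums if `Ext^0(E, -)` does. -/
theorem preserves_coyoneda {E : A} {J : Type*} [Category* J]
    (h : PreservesColimitsOfShape J (extFunctorObj.{v} E 0)) :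
    PreservesColimitsOfShape J (preadditiveCoyoneda.obj (Opposite.op E)) := by
  let e : extFunctorObj.{v} E 0 ≅ preadditiveCoyoneda.obj (Opposite.op E) :=
    NatIso.ofComponents (fun G => (Ext.addEquiv₀ : Ext.{v} E G 0 ≃+ (E ⟶ G)).toAddCommGrpIso) (by
      intro G G' g
      ext x
      obtain ⟨f, rfl⟩ := (Ext.addEquiv₀ (X := E) (Y := G)).symm.surjective x
      change Ext.addEquiv₀ (((Ext.mk₀ f).comp (Ext.mk₀ g) (add_zero 0)) : Ext E G' 0) =
        (Ext.addEquiv₀ (Ext.mk₀ f : Ext.{v} E G 0)) ≫ g
      rw [Ext.mk₀_comp_mk₀]
      have h1 : ∀ {M N : A} (k : M ⟶ N), (Ext.addEquiv₀ : Ext.{v} M N 0 ≃+ (M ⟶ N)) (Ext.mk₀ k) = k := fun k =>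
        Ext.addEquiv₀.apply_symm_apply k
      rw [h1, h1])
  exact preservesColimitsOfShape_of_natIso e

end Yon

end K571.BddG
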