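import Groth.Agent.Sga4h.X144Shr
import Groth.Agent.Sga4h.LFinSupp
import Groth.Agent.Sga4h.LFinPull
import Groth.Agent.Sga4h.H299.ExtBC

/-!
# The kernel of `F ⟶ b_* b^* F`

* `nonempty_closedSeq_iso`: the kernel of `F ⟶ b_* b^* F` is `j_! j^* F`, `j` the complement of the closed immersion `b`
  (light-weight version of `Sga4h.H299.Exc.nonempty_closedSeq_iso`).
-/

set_option autoImplicit false
universe u

open CategoryTheory CategoryTheory.Limits AlgebraicGeometry Opposite

namespace K571.ClSeq

open Groth.Agent.Sga4h Groth.Agent.Sga4h.ModRestr Groth.Agent.Sga4h.EtaleRes Groth.Agent.Sga4h.H299.ExtBC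

attribute [local instance] jCont

variable {Λ : Type (u + 1)} [CommRing Λ] {U X Z : Scheme.{u}} (j : U ⟶ X) [IsOpenImmersion j] (b : Z ⟶ X)
  [IsClosedImmersion b] (hr : Set.range j = (Set.range b)ᶜ)

include hr in
theorem isIso_counit_closedSeq (F : EtModW.Mod Λ X) :
    IsIso ((extResAdj Λ j).counit.app (LFinSupp.closedSeq b F).X₁) := by
  have hm := X144Shr.mono_counit Λ j (LFinSupp.closedSeq b F).X₁
  let ε := (extResAdj Λ j).counit.app (LFinSupp.closedSeq b F).X₁
  have hi : IsIso ((res Λ j).map ε) := X144Shr.isIso_res_counit Λ j _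
  have h1 : IsZero ((EtModW.pull Λ j).obj (cokernel ε)) := by
    have h2 : IsZero ((res Λ j).obj (cokernel ε)) :=
      (isZero_cokernel_of_epi ((res Λ j).map ε)).of_iso (PreservesCokernel.iso (res Λ j) ε)
    exact h2.of_iso ((resPull Λ j).app _)
  have h2 : IsZero ((EtModW.pull Λ b).obj (cokernel ε)) := by
    have : Epi ((EtModW.pull Λ b).map (cokernel.π ε)) := inferInstance
    exact IsZero.of_epi ((EtModW.pull Λ b).map (cokernel.π ε)) (LFinSupp.isZero_pull_closedSeq b F)
  have h3 : IsZero (cokernel ε) := by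
    refine LFinPull.isZero_of_pull (ι := Bool) (Z := fun i => match i with
        | true => U
        | false => Z) (fun i => match i with
        | true => j
        | false => b) ?_ _ ?_
    · intro y
      by_cases hy : y ∈ Set.range b
      · exact ⟨false, hy⟩
      · refine ⟨true, ?_⟩
        change y ∈ Set.range j
        rw [hr]
        exact hy
    · intro i
      match i with
      | true => exact h1
      | false => exact h2
  have : Epi ε := Preadditive.epi_of_isZero_cokernel _ h3
  exact isIso_of_mono_of_epi ε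

/-- The kernel of `F ⟶ b_* b^* F` is `j_! j^* F`. -/
theorem nonempty_closedSeq_iso (hr : Set.range j = (Set.range b)ᶜ) (F : EtModW.Mod Λ X) :
    Nonempty ((LFinSupp.closedSeq b F).X₁ ≅ (ext Λ j).obj ((EtModW.pull Λ j).obj F)) := by
  have h1 := isIso_counit_closedSeq j b hr F
  have h2 : IsIso ((EtModW.pull Λ j).map (LFinSupp.closedSeq b F).f) :=
    LFinSupp.isIso_pull_closedSeq b F j (fun z hz => by
      have : j z ∈ Set.range j := ⟨z, rfl⟩
      rw [hr] at this
      exact this hz)
  let e1 : (ext Λ j).obj ((res Λ j).obj (LFinSupp.closedSeq b F).X₁) ≅ (LFinSupp.closedSeq b F).X₁ :=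
    @asIso _ _ _ _ _ h1
  let e2 : (EtModW.pull Λ j).obj (LFinSupp.closedSeq b F).X₁ ≅ (EtModW.pull Λ j).obj F :=
    @asIso _ _ _ _ _ h2
  exact ⟨e1.symm ≪≫ (ext Λ j).mapIso ((resPull Λ j).symm.app _ ≪≫ e2)⟩

end K571.ClSeq
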