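import Groth.Agent.EtModD.K571.Cpt
import Groth.Agent.SGA5.K571.OCDev
import Groth.Agent.EtModD.K571.ClSeq
import Groth.Agent.Desc.LQF
import Mathlib.AlgebraicGeometry.Morphisms.QuasiFinite

/-!
# Compact sheaves and closed immersions

`X` Noetherian such that separated locally quasi-finite `X`-schemes, locally of finite type, have finite étale
cohomological dimension (`HCD Λ X`).

* `cp_LM`: `Λ[U]` is compact, `U` separated étale and quasi-compact;
* `cp_push_pull_LM`: `i_* i^* Λ[U]` is compact for `i` a closed immersion;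
* `cp_push`: `i_* F` is compact for `F` constructible of finite `Ext`-dimension.
-/

set_option autoImplicit false

universe u

open CategoryTheory CategoryTheory.Limits AlgebraicGeometry Opposite CategoryTheory.Abelian

namespace K571.Closed

open K571.Cpt Groth.Agent Groth.Agent.Etcore Groth.Agent.Etcore.LFree Groth.Agent.Sga4h Groth.Agent.Sga4h.ModRestr
  Groth.Agent.Etrest Groth.Agent.Etrest.ModAb

attribute [local instance] Abelian.hasFiniteBiproducts
attribute [local instance 5000] CategoryTheory.Abelian.toPreadditive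
  CategoryTheory.Preadditive.preadditiveHasZeroMorphisms

variable {Λ : Type (u + 1)} [CommRing Λ] {X : Scheme.{u}}

variable (Λ X) in
/-- Separated locally quasi-finite schemes over `X`, locally of finite type, are of finite cohomological
dimension. -/
def HCD : Prop := ∀ (Y : Scheme.{u}) (g : Y ⟶ X) [IsSeparated g] [LocallyQuasiFinite g] [LocallyOfFiniteType g],
  FinCd Λ Y

variable [HasDerivedCategory.{u + 1} (EtModW.Mod Λ X)]
  [HasCoproducts.{u + 1} (DerivedCategory (EtModW.Mod Λ X))] [IsNoetherian X]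

theorem cp_LM (h : HCD Λ X) (U : X.Etale) (h1 : IsSeparated U.hom) (h2 : CompactSpace U.left) :
    CpA (LM Λ U) := by
  let p : U.left ⟶ X := U.hom
  have h0 : Etale p := U.prop
  have h3 : LocallyQuasiFinite p := Desc.LQF.of_etale p
  have h4 : IsLocallyNoetherian U.left := LocallyOfFiniteType.isLocallyNoetherian p
  have h5 : IsNoetherian U.left := {}
  have h6 : IsSeparated p := h1
  exact Cpt.cpA_LM Λ U h2 inferInstance (h _ p)

variable {Z : Scheme.{u}} (i : Z ⟶ X) [IsClosedImmersion i]

omit [AlgebraicGeometry.IsNoetherian X] in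
theorem cp_push_pull (F : EtModW.Mod Λ X) (W : X.Opens) (hr : Set.range W.ι = (Set.range i)ᶜ)
    (h1 : CpA ((ext Λ W.ι).obj ((EtModW.pull Λ W.ι).obj F))) (h2 : CpA F) :
    CpA ((EtModW.push Λ i).obj ((EtModW.pull Λ i).obj F)) := by
  obtain ⟨e⟩ := K571.ClSeq.nonempty_closedSeq_iso W.ι i hr F
  have h := LFinSupp.closedSeq_shortExact i F
  have h3 := cpA_shortExact₃ h (cpA_iso e.symm h1)
  have h4 := h3 h2
  exact h4

omit [HasDerivedCategory.{u + 1} (EtModW.Mod Λ X)]
  [HasCoproducts.{u + 1} (DerivedCategory (EtModW.Mod Λ X))] in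
theorem sep_compact {U : Scheme.{u}} (p : U ⟶ X) [IsSeparated p] [CompactSpace U] (W : X.Opens) :
    IsSeparated (pullback.snd p W.ι ≫ W.ι) ∧ CompactSpace ↥(pullback p W.ι) := by
  have h7 : QuasiCompact (pullback.fst p W.ι) := inferInstance
  exact ⟨inferInstance, QuasiCompact.compactSpace_of_compactSpace (pullback.fst p W.ι)⟩

theorem cp_push_pull_LM (h : HCD Λ X) (U : X.Etale) (h1 : IsSeparated U.hom) (h2 : CompactSpace U.left) :
    CpA ((EtModW.push Λ i).obj ((EtModW.pull Λ i).obj (LM Λ U))) := by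
  let W : X.Opens := ⟨(Set.range i)ᶜ, i.isClosedEmbedding.isClosed_range.isOpen_compl⟩
  have hr : Set.range W.ι = (Set.range i)ᶜ := Subtype.range_coe
  refine cp_push_pull i (LM Λ U) W hr ?_ (cp_LM h U h1 h2)
  obtain ⟨e'⟩ := K733.EtModBase.nonempty_ext_LM (Λ := Λ) W.ι ((EtCoh.bc W.ι).obj U)
  let e2 := (ext Λ W.ι).mapIso (LFreePull.pullLM (Λ := Λ) W.ι U)
  obtain ⟨h3, h4⟩ := @sep_compact X _ U.left U.hom h1 h2 W
  exact cpA_iso (e2 ≪≫ e'.symm).symm (cp_LM h _ h3 h4)

omit [HasDerivedCategory.{u + 1} (EtModW.Mod Λ X)]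
  [HasCoproducts.{u + 1} (DerivedCategory (EtModW.Mod Λ X))] [AlgebraicGeometry.IsNoetherian X] in
theorem isSeparated_of_affine {U X : Scheme.{u}} (p : U ⟶ X) [IsAffine U] : IsSeparated p := inferInstance

/-- `i_* F` is compact for `F` constructible of finite `Ext`-dimension. -/
theorem cp_push [IsNoetherianRing Λ] (h : HCD Λ X) (F : EtModW.Mod Λ Z) (hF : EtModW.IsConstructible Λ F) (n : ℕ)
    (hd : ∀ (G : EtModW.Mod Λ Z) (x : Ext.{u + 1} F G n), x = 0) : CpA ((EtModW.push Λ i).obj F) := by
  have h1 := Sga5.H861.Support.preservesFiniteColimits_push (Λ := Λ) i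
  have h2 := Sga5.H861.Support.preservesFiniteLimits_push (Λ := Λ) i
  have h3 := Sga5.H861.Support.additive_push (Λ := Λ) i
  have h5 : IsLocallyNoetherian Z := LocallyOfFiniteType.isLocallyNoetherian i
  refine cpA_map_of_res (EtModW.push Λ i)
    (fun E => ∃ (m : ℕ) (U : Fin m → X.Etale), (∀ k, IsAffine (U k).left) ∧
      Nonempty (E ≅ (EtModW.pull Λ i).obj (⨁ fun k => LM Λ (U k))))
    (fun F => EtModW.IsConstructible Λ F) ?_ ?_ n F hF hd
  · intro G hG
    obtain ⟨m, U, hU, p, hp⟩ := LPres.exists_epi_biproduct (K571.OCDev.cons_push_closed i hG)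
    obtain ⟨e⟩ := K571.OCDev.nonempty_pull_push_closed (Λ := Λ) i G
    let q : (EtModW.pull Λ i).obj (⨁ fun k => LM Λ (U k)) ⟶ G := (EtModW.pull Λ i).map p ≫ e.hom
    have hq : Epi q := inferInstance
    refine ⟨kernel q, _, kernel.ι q, q, kernel.condition q, ?_, ⟨m, U, hU, ⟨Iso.refl _⟩⟩, ?_⟩
    · exact { exact := ShortComplex.exact_kernel _, mono_f := inferInstance, epi_g := hq }
    · refine LamSerre.isConstructible_kernel q (LCrit.isConstructible_pull i _ ?_)
      refine K733.EtModBase.isConstructible_biproduct _ fun k => ?_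
      have := hU k
      exact LFreePull.isConstructible_LM_of_affine (U k)
  · rintro E ⟨m, U, hU, ⟨e⟩⟩
    refine cpA_iso ((EtModW.push Λ i).mapIso (e ≪≫ (EtModW.pull Λ i).mapBiproduct _) ≪≫
      (EtModW.push Λ i).mapBiproduct _).symm (cpA_biproduct _ fun k => ?_)
    have h4 : IsAffine (U k).left := hU k
    exact cp_push_pull_LM i h (U k) (@isSeparated_of_affine (U k).left X (U k).hom h4) inferInstance

end K571.Closed
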