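import Mathlib.Algebra.Homology.DerivedCategory.Ext.ExactSequences
import Mathlib.Algebra.Homology.DerivedCategory.Ext.Map
import Mathlib.Algebra.Homology.DerivedCategory.SingleTriangle
import Mathlib.Algebra.Homology.DerivedCategory.ExactFunctor
import Mathlib.CategoryTheory.Triangulated.Subcategory
import Mathlib.CategoryTheory.ObjectProperty.Retract

/-!
# Thick subcategories of derived categories and resolutions of objects of finite `Ext`-dimension

* `mem_of_zero`: `P` triangulated and stable under retracts; if `0 : X ⟶ Y` has its cone in `P` then `X` is in `P`;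
* `mem_of_res`: `F` has a (partial) resolution by objects `E` with `E[0] ∈ P`, and `Ext^n(F, -) = 0`; then
  `F[0] ∈ P`;
* `mem_map_of_res`: the same for `Φ(F)[0]`, `Φ` an exact functor.
-/

set_option autoImplicit false

universe w w' w'' w''' v v' u u'

open CategoryTheory CategoryTheory.Limits CategoryTheory.Abelian

namespace K571.Thick

section Tri

open Pretriangulated

variable {C : Type*} [Category* C] [HasZeroObject C] [HasShift C ℤ]
  [Preadditive C] [∀ (n : ℤ), (shiftFunctor C n).Additive] [Pretriangulated C]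
  (P : ObjectProperty C) [P.IsTriangulated] [P.IsStableUnderRetracts]

theorem mem_of_shift {X : C} (n : ℤ) (h : P (X⟦n⟧)) : P X := by
  have h1 : P ((X⟦n⟧)⟦-n⟧) := P.le_shift (-n) _ h
  exact P.prop_of_retract (Retract.ofIso ((shiftFunctorCompIsoId C n (-n) (by simp)).app X).symm) h1

theorem mem_of_zero {X Y : C} (h : P.trW (0 : X ⟶ Y)) : P X := by
  obtain ⟨Z, g, k, hT, hZ⟩ := (P.trW_iff _).1 h
  have h1 : (Triangle.mk (0 : X ⟶ Y) g k).rotate ∈ distTriang C := rot_of_distTriang _ hT
  have h2 : (Triangle.mk (0 : X ⟶ Y) g k).rotate.rotate ∈ distTriang C := rot_of_distTriang _ h1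
  obtain ⟨s, hs⟩ := Triangle.coyoneda_exact₂ _ h2 (𝟙 (X⟦(1 : ℤ)⟧)) (by
    change 𝟙 _ ≫ (-((0 : X ⟶ Y)⟦(1 : ℤ)⟧')) = 0
    simp)
  have hs' : s ≫ k = 𝟙 _ := hs.symm
  exact mem_of_shift P 1 (P.prop_of_retract ⟨s, k, hs'⟩ hZ)

end Tri

section Res

variable {A : Type u} [Category.{v} A] [Abelian A] [HasDerivedCategory.{w'} A]
  (P : ObjectProperty (DerivedCategory A)) [P.IsTriangulated]
  (PE K : A → Prop)
  (hres : ∀ X, K X → ∃ (K' E : A) (i : K' ⟶ E) (p : E ⟶ X) (w : i ≫ p = 0),
    (ShortComplex.mk i p w).ShortExact ∧ PE E ∧ K K')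
  (hPE : ∀ E, PE E → P ((DerivedCategory.singleFunctor A 0).obj E))

include hres hPE in
theorem exists_map (n : ℕ) : ∀ F, K F → ∃ (Z : A) (_ : K Z)
    (δ : (DerivedCategory.singleFunctor A 0).obj F ⟶ ((DerivedCategory.singleFunctor A 0).obj Z)⟦(n : ℤ)⟧),
      P.trW δ := by
  induction n with
  | zero =>
    intro F hF
    let e := (shiftFunctorZero' (DerivedCategory A) ((0 : ℕ) : ℤ) rfl).app
      ((DerivedCategory.singleFunctor A 0).obj F)
    exact ⟨F, hF, e.inv, P.trW_of_isIso _⟩
  | succ n ih =>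
    intro F hF
    obtain ⟨K', E, i, p, w, hS, hE, hK'⟩ := hres F hF
    obtain ⟨Z, hZ, δ, hδ⟩ := ih K' hK'
    let d : (DerivedCategory.singleFunctor A 0).obj F ⟶
        ((DerivedCategory.singleFunctor A 0).obj K')⟦(1 : ℤ)⟧ := hS.singleδ
    have hd : P.trW d :=
      ObjectProperty.trW.mk' P (Pretriangulated.rot_of_distTriang _ hS.singleTriangle_distinguished) (hPE E hE)
    let e := (shiftFunctorAdd' (DerivedCategory A) (n : ℤ) 1 ((n + 1 : ℕ) : ℤ) (by push_cast; ring)).app
      ((DerivedCategory.singleFunctor A 0).obj Z)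
    refine ⟨Z, hZ, d ≫ δ⟦(1 : ℤ)⟧' ≫ e.inv, ?_⟩
    exact P.trW.comp_mem _ _ hd (P.trW.comp_mem _ _ (ObjectProperty.trW.shift hδ 1) (P.trW_of_isIso _))

include hres hPE in
/-- An object of finite `Ext`-dimension with a partial resolution by objects of `P` is in `P`. -/
theorem mem_of_res [P.IsStableUnderRetracts] [HasExt.{w} A] (n : ℕ) (F : A) (hF : K F)
    (hd : ∀ (G : A) (x : Ext.{w} F G n), x = 0) : P ((DerivedCategory.singleFunctor A 0).obj F) := by
  obtain ⟨Z, hZ, δ, hδ⟩ := exists_map P PE K hres hPE n F hF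
  have h0 : δ = 0 := by
    have h1 := hd Z (Ext.homAddEquiv.symm δ)
    have h2 := congrArg Ext.homAddEquiv h1
    rwa [AddEquiv.apply_symm_apply, map_zero] at h2
  rw [h0] at hδ
  exact mem_of_zero P hδ

end Res

section Map

variable {A : Type u} [Category.{v} A] [Abelian A] [HasDerivedCategory.{w'} A]
  {B : Type u'} [Category.{v'} B] [Abelian B] [HasDerivedCategory.{w''} B]
  (Φ : A ⥤ B) [Φ.Additive] [PreservesFiniteLimits Φ] [PreservesFiniteColimits Φ]
  (P : ObjectProperty (DerivedCategory B)) [P.IsTriangulated] [P.IsStableUnderRetracts]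
  (PE K : A → Prop)
  (hres : ∀ X, K X → ∃ (K' E : A) (i : K' ⟶ E) (p : E ⟶ X) (w : i ≫ p = 0),
    (ShortComplex.mk i p w).ShortExact ∧ PE E ∧ K K')
  (hPE : ∀ E, PE E → P ((DerivedCategory.singleFunctor B 0).obj (Φ.obj E)))

include hres hPE in
theorem mem_map_of_res_aux [HasExt.{w} A] (n : ℕ) (F : A) (hF : K F)
    (hd : ∀ (G : A) (x : Ext.{w} F G n), x = 0) :
    P ((DerivedCategory.singleFunctor B 0).obj (Φ.obj F)) := by
  let Q := P.inverseImage Φ.mapDerivedCategory
  have h1 : Q.IsTriangulated := inferInstance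
  have h2 : Q.IsStableUnderRetracts := ⟨fun r hY => P.prop_of_retract (r.map Φ.mapDerivedCategory) hY⟩
  have key : Q ((DerivedCategory.singleFunctor A 0).obj F) :=
    mem_of_res Q PE K hres (fun E hE => P.prop_of_iso
      ((Φ.mapDerivedCategorySingleFunctor 0).app E).symm (hPE E hE)) n F hF hd
  exact P.prop_of_iso ((Φ.mapDerivedCategorySingleFunctor 0).app F) key

end Map

section Map'

variable {A : Type u} [Category.{v} A] [Abelian A]
  {B : Type u'} [Category.{v'} B] [Abelian B] [HasDerivedCategory.{w''} B]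
  (Φ : A ⥤ B) [Φ.Additive] [PreservesFiniteLimits Φ] [PreservesFiniteColimits Φ]
  (P : ObjectProperty (DerivedCategory B)) [P.IsTriangulated] [P.IsStableUnderRetracts]
  (PE K : A → Prop)
  (hres : ∀ X, K X → ∃ (K' E : A) (i : K' ⟶ E) (p : E ⟶ X) (w : i ≫ p = 0),
    (ShortComplex.mk i p w).ShortExact ∧ PE E ∧ K K')
  (hPE : ∀ E, PE E → P ((DerivedCategory.singleFunctor B 0).obj (Φ.obj E)))

include hres hPE in
/-- If `F` has finite `Ext`-dimension and a partial resolution by objects `E` with `Φ(E)[0]` in `P`, then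
`Φ(F)[0]` is in `P`. -/
theorem mem_map_of_res [HasExt.{w} A] (n : ℕ) (F : A) (hF : K F)
    (hd : ∀ (G : A) (x : Ext.{w} F G n), x = 0) :
    P ((DerivedCategory.singleFunctor B 0).obj (Φ.obj F)) := by
  have : HasDerivedCategory A := HasDerivedCategory.standard A
  exact mem_map_of_res_aux Φ P PE K hres hPE n F hF hd

end Map'

end K571.Thick
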