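import Groth.Agent.EtModD.K571.ExtSum
import Groth.Agent.EtModD.K571.Thick
import Groth.Agent.EtModD.K733.Base
import Groth.Agent.CohtopA.Compact
import Groth.Agent.Cohder.Compact
import Groth.Agent.Sga4h.BidFin
import Groth.Prelude.Def_CohDer

/-!
# Compactness of `Λ[U]` in `D(X_ét, Λ)`

* `FinCd Λ Y`: finite étale cohomological dimension for sheaves of `Λ`-modules;
* `ext_LM_eq_zero`: `Ext^p(Λ[U], -) = 0` for large `p` if `U` is of finite cohomological dimension;
* `CC`: compact objects, a triangulated subcategory stable under retracts;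
* `cpt_LM`: `Λ[U]` is compact for `U` quasi-compact, quasi-separated, of finite cohomological dimension.
-/

set_option autoImplicit false

universe u w v u'

open CategoryTheory CategoryTheory.Limits AlgebraicGeometry Opposite CategoryTheory.Abelian

namespace K571.Cpt

section General

variable {D : Type u'} [Category.{v} D] [Preadditive D] [HasZeroObject D] [HasShift D ℤ]
    [∀ n : ℤ, (shiftFunctor D n).Additive] [Pretriangulated D] [HasCoproducts.{v} D]

variable (D) in
/-- Compact objects. -/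
def CC : ObjectProperty D := fun K => CohDer.IsCompactObject K

instance : (CC D).IsTriangulated := Groth.Agent.CohtopA.Compact.isTriangulated_isCompactObject

instance : (CC D).IsStableUnderRetracts :=
  ⟨fun r h => Groth.Agent.Cohder.Compact.isCompactObject_of_retract r h⟩

end General

section Ab

variable {A : Type u'} [Category.{v} A] [Abelian A] [HasDerivedCategory.{w} A]
  [HasCoproducts.{w} (DerivedCategory A)]

/-- Objects of `A` which are compact as objects of the derived category. -/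
def CpA (F : A) : Prop := CC (DerivedCategory A) ((DerivedCategory.singleFunctor A 0).obj F)

theorem cpA_retract {F G : A} (r : Retract F G) (h : CpA G) : CpA F :=
  (CC (DerivedCategory A)).prop_of_retract (r.map (DerivedCategory.singleFunctor A 0)) h

theorem cpA_iso {F G : A} (e : F ≅ G) (h : CpA F) : CpA G :=
  cpA_retract (Retract.ofIso e.symm) h

theorem cpA_shortExact₁ {S : ShortComplex A} (hS : S.ShortExact) (h2 : CpA S.X₂)
    (h3 : CpA S.X₃) : CpA S.X₁ :=
  (CC (DerivedCategory A)).ext_of_isTriangulatedClosed₁ _ hS.singleTriangle_distinguished h2 h3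

theorem cpA_shortExact₂ {S : ShortComplex A} (hS : S.ShortExact) (h1 : CpA S.X₁)
    (h3 : CpA S.X₃) : CpA S.X₂ :=
  (CC (DerivedCategory A)).ext_of_isTriangulatedClosed₂ _ hS.singleTriangle_distinguished h1 h3

theorem cpA_shortExact₃ {S : ShortComplex A} (hS : S.ShortExact) (h1 : CpA S.X₁)
    (h2 : CpA S.X₂) : CpA S.X₃ :=
  (CC (DerivedCategory A)).ext_of_isTriangulatedClosed₃ _ hS.singleTriangle_distinguished h1 h2

theorem cpA_isZero {F : A} (h : IsZero F) : CpA F :=
  Groth.Agent.CohtopA.Compact.isCompactObject_zero ((DerivedCategory.singleFunctor A 0).map_isZero h)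

theorem cpA_biprod {F G : A} (hF : CpA F) (hG : CpA G) : CpA (F ⊞ G) := by
  let S : ShortComplex A := ShortComplex.mk (biprod.inl : F ⟶ F ⊞ G) (biprod.snd : F ⊞ G ⟶ G)
    biprod.inl_snd
  have s : S.Splitting :=
    { r := biprod.fst
      s := biprod.inr }
  exact cpA_shortExact₂ s.shortExact hF hG

variable (A) in
/-- Compact objects of `A`, as an object property. -/
def CpP : ObjectProperty A := CpA

instance : (CpP A).IsClosedUnderIsomorphisms := ⟨fun e h => cpA_iso e h⟩

instance : (CpP A).ContainsZero := ⟨⟨_, isZero_zero _, cpA_isZero (isZero_zero _)⟩⟩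

instance : (CpP A).IsClosedUnderBinaryProducts where
  limitsOfShape_le := by
    rintro Y ⟨p⟩
    refine cpA_iso ?_ (cpA_biprod (p.prop_diag_obj (.mk .left)) (p.prop_diag_obj (.mk .right)))
    exact biprod.isoProd _ _ ≪≫ IsLimit.conePointUniqueUpToIso (prodIsProd _ _)
      ((IsLimit.postcomposeHomEquiv (diagramIsoPair p.diag) _).2 p.isLimit)

instance : (CpP A).IsClosedUnderFiniteProducts := .mk'

attribute [local instance] Abelian.hasFiniteBiproducts in
theorem cpA_biproduct {ι : Type} [Finite ι] (f : ι → A) (hf : ∀ i, CpA (f i)) : CpA (⨁ f) :=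
  (CpP A).prop_of_isLimit_fan (biproduct.isLimit f) hf

/-- If `F` has finite `Ext`-dimension and a partial resolution by objects `E` with `Φ(E)` compact, then
`Φ(F)` is compact. -/
theorem cpA_map_of_res {B : Type*} [Category* B] [Abelian B] (Φ : B ⥤ A) [Φ.Additive] [PreservesFiniteLimits Φ]
    [PreservesFiniteColimits Φ] (PE K : B → Prop)
    (hres : ∀ X, K X → ∃ (K' E : B) (i : K' ⟶ E) (p : E ⟶ X) (w : i ≫ p = 0),
      (ShortComplex.mk i p w).ShortExact ∧ PE E ∧ K K')
    (hPE : ∀ E, PE E → CpA (Φ.obj E)) [HasExt.{u} B] (n : ℕ) (F : B) (hF : K F)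
    (hd : ∀ (G : B) (x : Ext.{u} F G n), x = 0) : CpA (Φ.obj F) :=
  K571.Thick.mem_map_of_res Φ (CC (DerivedCategory A)) PE K hres hPE n F hF hd

/-- An object of finite `Ext`-dimension all of whose `Ext`-functors commute with direct sums is compact. -/
theorem cpA_of_finDim {A : Type u'} [Category.{v} A] [Abelian A] [IsGrothendieckAbelian.{v} A]
    [HasDerivedCategory.{v} A] [HasCoproducts.{v} (DerivedCategory A)] [HasExt.{v} A] {G : A} (d : ℕ)
    (h1 : ∀ (F : A) (p : ℕ), d < p → ∀ x : Ext.{v} G F p, x = 0)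
    (hG : ∀ (ι : Type v) (p : ℕ), PreservesColimitsOfShape (Discrete ι) (Abelian.extFunctorObj.{v} G p)) :
    CpA G := by
  intro ι M
  rw [Groth.Agent.CohtopB.FinFactor.homSumToHomCoprod_bijective_iff]
  exact Groth.Agent.CohtopB.CompactFinDim.isFF _ d h1 (hG ι) M

end Ab

section Et

open Groth.Agent Groth.Agent.Etcore Groth.Agent.Etcore.ModExt Groth.Agent.Etcore.LVan Groth.Agent.Etcore.LFree
  Groth.Agent.Etrest Groth.Agent.Sga4B.DualShape Groth.Agent.Sga4h.ModRestr

variable (Λ : Type (u + 1)) [CommRing Λ]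

/-- Finite étale cohomological dimension for sheaves of `Λ`-modules. -/
def FinCd (Y : Scheme.{u}) : Prop :=
  ∃ N : ℕ, ∀ (F : EtModW.Mod Λ Y) (i : ℕ), N < i → Subsingleton (EtCoh.H Y ((EtModD.forgetToAb Λ Y).obj F) i)

variable {X : Scheme.{u}}

theorem ext_const_eq_zero {Y : Scheme.{u}} {N : ℕ}
    (h : ∀ (F : EtModW.Mod Λ Y) (i : ℕ), N < i → Subsingleton (EtCoh.H Y ((EtModD.forgetToAb Λ Y).obj F) i))
    (F : EtModW.Mod Λ Y) (p : ℕ) (hp : N < p) (x : Ext.{u + 1} (EtModW.constMod Λ Y Λ) F p) : x = 0 := by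
  have h1 := h F p hp
  exact (Groth.Agent.Sga4h.BidFin.extConstEquiv Λ F p).injective (Subsingleton.elim _ _)

/-- `Ext^p(j_! Λ, F) → Ext^p(Λ, j^* F)` is bijective. -/
theorem ext_ext_bijective {V : Scheme.{u}} (j : V ⟶ X) [Etale j] (M : EtModW.Mod Λ V) (F : EtModW.Mod Λ X)
    (p : ℕ) : Function.Bijective
      (ExtCompare.cmp (Groth.Agent.Sga4h.ModRestr.res Λ j) ((extResAdj Λ j).unit.app M) F p) := by
  refine ExtCompare.cmp_bijective _ _ (fun G => ?_) (fun I _ q e => ?_) F p
  · have h := ((extResAdj Λ j).homEquiv M G).bijective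
    convert h using 2 with f
    exact ((extResAdj Λ j).homEquiv_unit _ _ f).symm
  · have := injective_res Λ j I
    exact Ext.eq_zero_of_injective e

theorem ext_ext_eq_zero {V : Scheme.{u}} (j : V ⟶ X) [Etale j] (M : EtModW.Mod Λ V) (N : ℕ)
    (h : ∀ (F : EtModW.Mod Λ V) (p : ℕ), N < p → ∀ x : Ext.{u + 1} M F p, x = 0)
    (F : EtModW.Mod Λ X) (p : ℕ) (hp : N < p)
    (x : Ext.{u + 1} ((Groth.Agent.Sga4h.ModRestr.ext Λ j).obj M) F p) : x = 0 :=
  (ext_ext_bijective Λ j M F p).1 (by rw [h _ p hp (ExtCompare.cmp _ _ F p x), map_zero])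

theorem ext_eq_zero_of_iso {A : Type u'} [Category.{v} A] [Abelian A] [HasExt.{w} A] {P Q : A} (e : P ≅ Q)
    {F : A} {p : ℕ} (h : ∀ x : Ext.{w} P F p, x = 0) (x : Ext.{w} Q F p) : x = 0 := by
  have h1 := h ((Ext.mk₀ e.hom).comp x (zero_add p))
  have h2 := congrArg (fun y => (Ext.mk₀ e.inv).comp y (zero_add p)) h1
  simp only [Ext.mk₀_comp_mk₀_assoc, e.inv_hom_id, Ext.mk₀_id_comp, Ext.comp_zero] at h2
  exact h2

theorem ext_LM_eq_zero (U : X.Etale) {N : ℕ}
    (h : ∀ (F : EtModW.Mod Λ U.left) (i : ℕ), N < i →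
      Subsingleton (EtCoh.H U.left ((EtModD.forgetToAb Λ U.left).obj F) i))
    (F : EtModW.Mod Λ X) (p : ℕ) (hp : N < p) (x : Ext.{u + 1} (LM Λ U) F p) : x = 0 := by
  obtain ⟨e⟩ := K733.EtModBase.nonempty_LM_iso_ext (Λ := Λ) U.hom
  exact ext_eq_zero_of_iso e.symm (fun x => ext_ext_eq_zero Λ U.hom _ N (ext_const_eq_zero Λ h) F p hp x) x

variable [HasDerivedCategory.{u + 1} (EtModW.Mod Λ X)]
  [HasCoproducts.{u + 1} (DerivedCategory (EtModW.Mod Λ X))]

theorem cpA_LM (U : X.Etale) (h1 : CompactSpace U.left) (h2 : QuasiSeparatedSpace U.left)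
    (h : FinCd Λ U.left) : CpA (LM Λ U) := by
  obtain ⟨N, hN⟩ := h
  exact cpA_of_finDim N (fun F p hp x => ext_LM_eq_zero Λ U hN F p hp x)
    (fun ι p => K571.ExtSum.preserves_ext_LM U h1 h2 ι p)

end Et

end K571.Cpt
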