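import Groth.Agent.EtModD.K571.Lcc
import Groth.Agent.Sga5.H835.InvEquiv
import Groth.Agent.Sga5.H835.InvRes
import Groth.Agent.Sga4h.GenLC657
import Mathlib.RingTheory.Flat.EquationalCriterion

/-!
# Constructible flat sheaves are compact

* `exists_generic_const`: a constructible flat sheaf on a nonempty Noetherian scheme becomes constant, with finite
  projective values, on an étale cover of a nonempty open;
* `cp_of_constructible_flat`: dévissage.
-/

set_option autoImplicit false

universe u

open CategoryTheory CategoryTheory.Limits AlgebraicGeometry Opposite CategoryTheory.Abelian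

namespace K571.Devi

open K571.Cpt K571.Closed K571.Flat K571.Lcc Groth.Agent Groth.Agent.Etcore Groth.Agent.Etcore.LFree
  Groth.Agent.Sga4h Groth.Agent.Sga4h.ModRestr Groth.Agent.Etrest Groth.Agent.Etrest.ModAb
  Groth.Agent.Sga4h.EtPts

attribute [local instance] Abelian.hasFiniteBiproducts
attribute [local instance 5000] CategoryTheory.Abelian.toPreadditive
  CategoryTheory.Preadditive.preadditiveHasZeroMorphisms

variable {Λ : Type (u + 1)} [CommRing Λ]

/-- If a constant sheaf on a nonempty scheme is flat then its value is flat. -/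
theorem flat_of_const {V : Scheme.{u}} (v : V) (M : Type (u + 1)) [AddCommGroup M] [Module Λ M]
    (h : IsFl (EtModW.constMod Λ V M)) : Module.Flat Λ M := by
  have h1 := flat_fib (gpt v) h
  let e : (fib Λ (gpt v)).obj (EtModW.constMod Λ V M) ≅ ModuleCat.of Λ M :=
    (LamTriv.fiberConst (J := V.smallEtaleTopology) (A := ModuleCat.{u + 1} Λ) (gpt v)).app (ModuleCat.of Λ M)
  exact Module.Flat.of_linearEquiv e.symm.toLinearEquiv

/-- A constructible flat sheaf on a nonempty Noetherian scheme is generically étale-locally constant with finite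
projective values. -/
theorem exists_generic_const [IsNoetherianRing Λ] {Z : Scheme.{u}} [AlgebraicGeometry.IsNoetherian Z] [Nonempty Z]
    (G : EtModW.Mod Λ Z) (hG : EtModW.IsConstructible Λ G) (hf : IsFl G) :
    ∃ (W : Z.Opens) (_ : Nonempty W) (V : W.toScheme.Etale) (_ : Function.Surjective V.hom) (M : Type (u + 1))
      (_ : AddCommGroup M) (_ : Module Λ M) (_ : Module.Finite Λ M) (_ : Module.Projective Λ M),
      Nonempty ((EtModW.pull Λ V.hom).obj ((EtModW.pull Λ W.ι).obj G) ≅ EtModW.constMod Λ V.left M) := by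
  let z : Z := Classical.arbitrary Z
  obtain ⟨η, hη⟩ := QuasiSober.sober (isIrreducible_irreducibleComponent (x := z))
    isClosed_irreducibleComponent
  have hx : ∀ y : Z, y ⤳ η → y = η := by
    intro y hy
    have h1 : irreducibleComponent z ⊆ closure {y} := by
      rw [← hη.def]
      exact hy.closure_subset
    have h2 : closure {y} = irreducibleComponent z :=
      eq_irreducibleComponent isIrreducible_singleton.isPreirreducible.closure h1
    exact (show IsGenericPoint y (irreducibleComponent z) from h2).eq hη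
  obtain ⟨U, u, hu, M, i1, i2, i3, φ, hφ⟩ := GenLC657.exists_nhd G hG η hx
  obtain ⟨e⟩ := Sga5.H835.InvRes.nonempty_res_iso φ hφ
  let p : U.left ⟶ Z := U.hom
  have hp : Etale p := U.prop
  let W : Z.Opens := ⟨Set.range p, p.isOpenMap.isOpen_range⟩
  let q : U.left ⟶ W.toScheme := IsOpenImmersion.lift W.ι p (by
    rw [Scheme.Opens.range_ι]
    rfl)
  have hq : q ≫ W.ι = p := IsOpenImmersion.lift_fac _ _ _
  have hqe : Etale q := by
    have : Etale (q ≫ W.ι) := by rw [hq]; exact hp
    exact Etale.of_comp q W.ι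
  have e1 : (EtModW.pull Λ p).obj G ≅ EtModW.constMod Λ U.left M :=
    (BidEtSh.pullIsoResM Λ p).app G ≪≫ e
  have hM : Module.Flat Λ M := flat_of_const u M (flat_of_iso e1 (flat_pull p hf))
  have hM2 : Module.FinitePresentation Λ M := Module.finitePresentation_of_finite Λ M
  refine ⟨W, ⟨⟨p u, ⟨u, rfl⟩⟩⟩, Scheme.Etale.mk q, ?_, M, i1, i2, i3,
    Module.Flat.projective_of_finitePresentation, ⟨?_⟩⟩
  · rintro ⟨w, ⟨t, ht⟩⟩
    refine ⟨t, ?_⟩
    apply W.ι.isOpenEmbedding.injective
    change (q ≫ W.ι) t = w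
    rw [hq]
    exact ht
  · exact (LPullComp.pullComp Λ q W.ι).app G ≪≫ (LPullComp.pullCongr Λ hq).app G ≪≫ e1

section Main

variable {X : Scheme.{u}} [HasDerivedCategory.{u + 1} (EtModW.Mod Λ X)]
  [HasCoproducts.{u + 1} (DerivedCategory (EtModW.Mod Λ X))] [AlgebraicGeometry.IsNoetherian X] [IsNoetherianRing Λ]

omit [AlgebraicGeometry.IsNoetherian X] [IsNoetherianRing Λ] in
theorem cp_push_of_closed {Z : Scheme.{u}} (i : Z ⟶ X) [IsClosedImmersion i] (G : EtModW.Mod Λ Z)
    (W : Z.Opens) {Z' : Scheme.{u}} (i' : Z' ⟶ Z) [IsClosedImmersion i'] (hr : Set.range W.ι = (Set.range i')ᶜ)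
    (h1 : CpA ((EtModW.push Λ i).obj ((ext Λ W.ι).obj ((EtModW.pull Λ W.ι).obj G))))
    (h2 : CpA ((EtModW.push Λ (i' ≫ i)).obj ((EtModW.pull Λ i').obj G))) :
    CpA ((EtModW.push Λ i).obj G) := by
  have h3 := Sga5.H861.Support.preservesFiniteColimits_push (Λ := Λ) i
  have h4 := Sga5.H861.Support.preservesFiniteLimits_push (Λ := Λ) i
  have h5 := Sga5.H861.Support.additive_push (Λ := Λ) i
  obtain ⟨e⟩ := K571.ClSeq.nonempty_closedSeq_iso W.ι i' hr G
  have hS := LFinSupp.closedSeq_shortExact i' G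
  have hS' := hS.map_of_exact (EtModW.push Λ i)
  have h6 : CpA ((EtModW.push Λ i).obj (LFinSupp.closedSeq i' G).X₁) :=
    cpA_iso ((EtModW.push Λ i).mapIso e.symm) h1
  have h7 : CpA ((EtModW.push Λ i).obj ((EtModW.push Λ i').obj ((EtModW.pull Λ i').obj G))) :=
    cpA_iso ((LPullComp.pushComp Λ i i').symm.app _) h2
  have h8 := cpA_shortExact₂ hS' h6
  have h9 := h8 h7
  exact h9

theorem cp_push_of_flat (h : HCD Λ X) (T : TopologicalSpace.Closeds X) : ∀ {Z : Scheme.{u}} (i : Z ⟶ X)
    [IsClosedImmersion i] (_ : Set.range i ⊆ T) (G : EtModW.Mod Λ Z), EtModW.IsConstructible Λ G → IsFl G →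
    CpA ((EtModW.push Λ i).obj G) := by
  induction T using WellFoundedLT.induction with
  | ind T ih =>
  intro Z i _ hT G hG hf
  have h5 : IsLocallyNoetherian Z := LocallyOfFiniteType.isLocallyNoetherian i
  have h6 : CompactSpace Z := QuasiCompact.compactSpace_of_compactSpace i
  have h7 : AlgebraicGeometry.IsNoetherian Z := {}
  by_cases hZ : Nonempty Z
  · obtain ⟨W, ⟨⟨w, hw⟩⟩, V, hV, M, i1, i2, i3, i4, ⟨e⟩⟩ := exists_generic_const G hG hf
    obtain ⟨Z', i', hi', hr⟩ := K571.OCDev.exists_closedImmersion Z (W : Set Z)ᶜ W.isOpen.isClosed_compl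
    have hr' : Set.range W.ι = (Set.range i')ᶜ := by
      rw [hr, compl_compl]
      exact Scheme.Opens.range_ι W
    refine cp_push_of_closed i G W i' hr' ?_ ?_
    · exact cp_push_ext i W.ι h _ (flat_pull W.ι hf) V hV M e
    · have hcl : IsClosed (Set.range (i' ≫ i)) := (i' ≫ i).isClosedEmbedding.isClosed_range
      have hlt : (⟨Set.range (i' ≫ i), hcl⟩ : TopologicalSpace.Closeds X) < T := by
        refine lt_of_le_of_ne ?_ ?_
        · rintro _ ⟨z, rfl⟩
          exact hT ⟨i' z, rfl⟩
        · intro heq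
          have h8 : i w ∈ (T : Set X) := hT ⟨w, rfl⟩
          rw [← heq] at h8
          obtain ⟨z, hz⟩ := h8
          have h9 : i' z = w := i.isClosedEmbedding.injective hz
          have h10 : w ∈ (W : Set Z)ᶜ := by
            rw [← hr]
            exact ⟨z, h9⟩
          exact h10 hw
      exact ih _ hlt (i' ≫ i) le_rfl _ (LCrit.isConstructible_pull i' G hG) (flat_pull i' hf)
  · have h8 : IsZero G := LFinPull.isZero_of_pull (ι := Empty) (Z := fun _ => Z) (fun _ => 𝟙 Z)
      (fun y => absurd ⟨y⟩ hZ) G (fun x => x.elim)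
    have h5 := Sga5.H861.Support.additive_push (Λ := Λ) i
    exact cpA_isZero ((EtModW.push Λ i).map_isZero h8)

/-- Constructible flat sheaves are compact. -/
theorem cp_of_constructible_flat (h : HCD Λ X) (G : EtModW.Mod Λ X) (hG : EtModW.IsConstructible Λ G)
    (hf : IsFl G) : CpA G :=
  cpA_iso ((LPullComp.pushId Λ X).app G) (cp_push_of_flat h ⊤ (𝟙 X) (fun _ _ => trivial) G hG hf)

end Main

end K571.Devi
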