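import Groth.Agent.CohtopB.CompactExt
import Groth.Agent.CohtopB.CompactFinDim
import Groth.Agent.Etcore.ModExt
import Groth.Agent.Etbase.EtColimBig
import Groth.Agent.Sga4B.DualWBasic
import Mathlib.CategoryTheory.Limits.Constructions.Filtered

/-!
# `Ext^q(Λ[U], -)` commutes with direct sums indexed by `Type (u + 1)`

* `preserves_of_finsum`: an additive functor `T` to abelian groups preserves direct sums if every element of
  `T(⊕ F i)` is a finite sum of images of elements of the `T(F i)`;
* `surj_ext_LM`: classes in `Ext^q(Λ[U], colim D)` come from a stage, `D` filtered, `U` quasi-compact and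
  quasi-separated;
* `preserves_ext_LM`.
-/

set_option autoImplicit false

universe u w v u'

open CategoryTheory CategoryTheory.Limits AlgebraicGeometry Opposite CategoryTheory.Abelian

namespace K571.ExtSum

section General

variable {A : Type u'} [Category.{v} A] [Preadditive A] {ι : Type w} [HasCoproductsOfShape ι A]
  (T : A ⥤ AddCommGrpCat.{w}) [T.Additive]

open Groth.Agent.CohtopB

theorem preserves_of_finsum
    (h : ∀ (F : ι → A) (y : T.obj (∐ F)), ∃ (s : Finset ι) (x : ∀ i, T.obj (F i)),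
      y = ∑ i ∈ s, T.map (Limits.Sigma.ι F i) (x i)) : PreservesColimitsOfShape (Discrete ι) T := by
  classical
  have key : ∀ F : ι → A, IsIso (sigmaComparison T F) := by
    intro F
    have hι : ∀ i, Limits.Sigma.ι (fun i => T.obj (F i)) i ≫ sigmaComparison T F =
        T.map (Limits.Sigma.ι F i) := fun i => Limits.Sigma.ι_desc _ _
    have hι' : ∀ i (x : T.obj (F i)), sigmaComparison T F (Limits.Sigma.ι (fun i => T.obj (F i)) i x) =
        T.map (Limits.Sigma.ι F i) x := fun i x => ConcreteCategory.congr_hom (hι i) x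
    refine (ConcreteCategory.isIso_iff_bijective _).2 ⟨?_, ?_⟩
    · rw [injective_iff_map_eq_zero]
      intro y hy
      obtain ⟨s, x, rfl⟩ := CompactExt.exists_finset_sum (fun i => T.obj (F i))
        (Cofan.mk _ (Limits.Sigma.ι (fun i => T.obj (F i)))) (coproductIsCoproduct _) y
      refine Finset.sum_eq_zero fun j hj => ?_
      obtain ⟨p, hp1, hp2⟩ := FinFactor.exists_proj F j
      have h1 : x j = 0 := by
        have h2 := congrArg (T.map p) hy
        rw [map_sum, map_sum, map_zero, Finset.sum_eq_single_of_mem j hj] at h2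
        · have h3 : T.map p (T.map (Limits.Sigma.ι F j) (x j)) = 0 := by
            rw [← hι']
            exact h2
          rw [← ConcreteCategory.comp_apply, ← T.map_comp, hp1, T.map_id] at h3
          exact h3
        · intro i _ hi
          change T.map p (sigmaComparison T F (Limits.Sigma.ι (fun i => T.obj (F i)) i (x i))) = 0
          rw [hι', ← ConcreteCategory.comp_apply, ← T.map_comp, hp2 i hi, T.map_zero]
          rfl
      rw [h1, map_zero]
    · intro y
      obtain ⟨s, x, rfl⟩ := h F y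
      refine ⟨∑ i ∈ s, Limits.Sigma.ι (fun i => T.obj (F i)) i (x i), ?_⟩
      rw [map_sum]
      exact Finset.sum_congr rfl fun i _ => hι' i (x i)
  have key2 : ∀ F : ι → A, PreservesColimit (Discrete.functor F) T := fun F => by
    have := key F
    exact PreservesCoproduct.of_iso_comparison T F
  exact preservesColimitsOfShape_of_discrete T

end General

section Stage

variable {A : Type u'} [Category.{v} A] [Preadditive A] [HasFiniteCoproducts A] {ι : Type w}
  (T : A ⥤ AddCommGrpCat.{w}) [T.Additive]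

/-- Elements coming from a finite stage are finite sums. -/
theorem finsum_of_desc (F : ι → A) [HasCoproduct F] (S : Finset (Discrete ι))
    (y : T.obj (∐ fun x : S => F x.1.as)) :
    ∃ (s : Finset ι) (x : ∀ i, T.obj (F i)),
      T.map (Limits.Sigma.desc fun x : S => Limits.Sigma.ι F x.1.as) y =
        ∑ i ∈ s, T.map (Limits.Sigma.ι F i) (x i) := by
  classical
  let f : S → A := fun x => F x.1.as
  let q : ∐ f ⟶ ∐ F := Limits.Sigma.desc fun x : S => Limits.Sigma.ι F x.1.as
  have hid : 𝟙 (∐ f) = ∑ j : S, Limits.Sigma.π f j ≫ Limits.Sigma.ι f j := by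
    apply Limits.Sigma.hom_ext
    intro k
    rw [Preadditive.comp_sum, Finset.sum_eq_single k]
    · rw [Category.comp_id, Sigma.ι_π_eq_id_assoc]
    · intro j _ hj
      rw [Limits.Sigma.ι_π_of_ne_assoc _ (Ne.symm hj), zero_comp]
    · intro h
      exact absurd (Finset.mem_univ k) h
  let x : ∀ i, T.obj (F i) := fun i =>
    if h : Discrete.mk i ∈ S then T.map (Limits.Sigma.π f ⟨⟨i⟩, h⟩) y else 0
  refine ⟨S.image (fun j => j.as), x, ?_⟩
  have h1 : T.map q y = ∑ j : S, T.map (Limits.Sigma.ι F j.1.as) (x j.1.as) := by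
    have h2 : q = ∑ j : S, Limits.Sigma.π f j ≫ Limits.Sigma.ι F j.1.as := by
      rw [← Category.id_comp q, hid, Preadditive.sum_comp]
      refine Finset.sum_congr rfl fun j _ => ?_
      rw [Category.assoc]
      congr 1
      exact Limits.Sigma.ι_desc _ _
    let E : (∐ f ⟶ ∐ F) →+ T.obj (∐ F) := AddMonoidHom.mk' (fun g => T.map g y) (fun a b => by
      rw [T.map_add]
      rfl)
    have h3 : E q = ∑ j : S, E (Limits.Sigma.π f j ≫ Limits.Sigma.ι F j.1.as) := by rw [h2, map_sum]
    refine h3.trans (Finset.sum_congr rfl fun j _ => ?_)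
    change T.map (Limits.Sigma.π f j ≫ Limits.Sigma.ι F j.1.as) y = _
    rw [T.map_comp, ConcreteCategory.comp_apply]
    congr 1
    have : x j.1.as = T.map (Limits.Sigma.π f j) y := dif_pos j.2
    exact this.symm
  refine h1.trans ?_
  rw [Finset.sum_image (fun a _ b _ h => Discrete.ext h)]
  exact Finset.sum_coe_sort S (fun j => T.map (Limits.Sigma.ι F j.as) (x j.as))

end Stage

section Et

open Groth.Agent.Etcore Groth.Agent.Etcore.ModExt Groth.Agent.Etcore.LVan Groth.Agent.Etcore.LFree
  Groth.Agent.Etrest Groth.Agent.Sga4B.DualShape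

variable {Λ : Type (u + 1)} [CommRing Λ] {X : Scheme.{u}}

open Groth.Agent.Etbase.ExtColim in
theorem fp_ZZ (U : X.Etale) (h1 : CompactSpace U.left) (h2 : QuasiSeparatedSpace U.left)
    (I : Type (u + 1)) [SmallCategory I] [IsFiltered I] (n : ℕ) :
    FP.{u + 1} (C := EtCoh.Ab X) I n (ZZ U) :=
  Groth.Agent.Etbase.EtColim.FP.of_iso ((Groth.Agent.Sga4B.DualWBasic.zfIso X).app U)
    (Groth.Agent.Etbase.EtColimBig.fp_ZU_big X ⟨h1, h2⟩ I n)

/-- Classes with values in a filtered colimit come from a stage. -/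
theorem surj_ext_LM (U : X.Etale) (h1 : CompactSpace U.left) (h2 : QuasiSeparatedSpace U.left)
    {I : Type (u + 1)} [SmallCategory I] [IsFiltered I] {D : I ⥤ EtModW.Mod Λ X} {c : Cocone D}
    (hc : IsColimit c) (n : ℕ) (x : Ext.{u + 1} (LM Λ U) c.pt n) :
    ∃ (i : I) (y : Ext.{u + 1} (LM Λ U) (D.obj i) n), y.comp (Ext.mk₀ (c.ι.app i)) (add_zero n) = x := by
  let ab' := ModAb.ab Λ X
  have : PreservesColimitsOfShape I ab' := inferInstance
  let hc' : IsColimit (ab'.mapCocone c) := isColimitOfPreserves ab' hc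
  let e : (ab'.mapCocone c).pt ≅ colimit (D ⋙ ab') := hc'.coconePointUniqueUpToIso (colimit.isColimit _)
  obtain ⟨i, y, hy⟩ := (fp_ZZ U h1 h2 I n n le_rfl (D ⋙ ab')).1
    ((extMap U c.pt n x).comp (Ext.mk₀ e.hom) (add_zero n))
  obtain ⟨y', rfl⟩ := (extMap_bijective U (D.obj i) n).2 y
  refine ⟨i, y', (extMap_bijective U c.pt n).1 ?_⟩
  rw [extMap_comp_mk₀]
  have he : colimit.ι (D ⋙ ab') i = (ab'.mapCocone c).ι.app i ≫ e.hom :=
    (IsColimit.comp_coconePointUniqueUpToIso_hom hc' (colimit.isColimit _) i).symm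
  have h3 : ((extMap U (D.obj i) n y').comp (Ext.mk₀ (abMap (c.ι.app i))) (add_zero n)).comp
      (Ext.mk₀ e.hom) (add_zero n) = (extMap U c.pt n x).comp (Ext.mk₀ e.hom) (add_zero n) := by
    rw [← hy, he, ← Ext.mk₀_comp_mk₀, ← Ext.comp_assoc_of_third_deg_zero]
    rfl
  have h4 := congrArg (fun z => z.comp (Ext.mk₀ e.inv) (add_zero n)) h3
  simp only [Ext.comp_assoc_of_third_deg_zero, Ext.mk₀_comp_mk₀] at h4
  have h5 : (abMap (c.ι.app i) ≫ e.hom) ≫ e.inv = abMap (c.ι.app i) := by
    rw [Category.assoc, e.hom_inv_id]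
    exact Category.comp_id _
  have h6 : e.hom ≫ e.inv = 𝟙 (ab c.pt) := e.hom_inv_id
  rw [h5, h6, Ext.comp_mk₀_id] at h4
  exact h4

open CoproductsFromFiniteFiltered in
/-- `Ext^n(Λ[U], -)` commutes with direct sums, `U` quasi-compact and quasi-separated. -/
theorem preserves_ext_LM (U : X.Etale) (h1 : CompactSpace U.left) (h2 : QuasiSeparatedSpace U.left)
    (ι : Type (u + 1)) (n : ℕ) :
    PreservesColimitsOfShape (Discrete ι) (extFunctorObj.{u + 1} (LM Λ U) n) := by
  have h3 := IsGrothendieckAbelian.hasColimits (EtModW.Mod Λ X)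
  refine preserves_of_finsum _ fun F y => ?_
  obtain ⟨S, z, hz⟩ := surj_ext_LM U h1 h2 (isColimitFiniteSubproductsCocone F) n y
  obtain ⟨s, x, hx⟩ := finsum_of_desc (extFunctorObj.{u + 1} (LM Λ U) n) F S z
  exact ⟨s, x, hz.symm.trans hx⟩

end Et

end K571.ExtSum
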