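import Groth.Agent.EtModD.K571.BddG
import Groth.Agent.EtModD.K571.Devi
import Groth.Agent.EtModD.K733.Resol
import Groth.Agent.S9035
import Groth.Agent.Sga5.H834.FinStk

/-!
# Compact objects of `D(X_ét, Λ)`

* `isCompact_of_bounded`: bounded complexes with constructible flat terms are compact;
* `exists_bounded_of_isCompact`: a compact object is isomorphic to such a complex.
-/

set_option autoImplicit false

universe u

open CategoryTheory CategoryTheory.Limits AlgebraicGeometry Opposite CategoryTheory.Abelian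

namespace K571.Final

open K571.Cpt K571.Closed K571.Flat K571.Lcc K571.BddG Groth.Agent Groth.Agent.Etcore Groth.Agent.Etcore.LFree
  Groth.Agent.Sga4h Groth.Agent.Sga4h.EtPts K733.EtModResol K733.EtModBase Groth.Agent.PerfA.CohomIn
  Groth.Agent.Sga4h.Dbc323 Groth.Agent.Etrest.ModCons Groth.Agent.Etcore.LFreeGen

attribute [local instance] Abelian.hasFiniteBiproducts
attribute [local instance 5000] CategoryTheory.Abelian.toPreadditive
  CategoryTheory.Preadditive.preadditiveHasZeroMorphisms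

variable {Λ : Type (u + 1)} [CommRing Λ] [IsNoetherianRing Λ] {X : Scheme.{u}}

section Stalks

/-- The stalks of `Λ[U]` are projective. -/
theorem projective_stk_LM [QuasiSeparatedSpace X] (U : X.Etale) [IsAffine U.left] (x : X) :
    Projective ((stk Λ x).obj (LM Λ U)) :=
  projective_of_finite_flat _ (Sga5.H834.FinStk.finite_stk _ (LFreePull.isConstructible_LM_of_affine U) x)
    (flat_fib (gpt x) (Sga5.H146.LMTensor.preservesFiniteLimits_LM U))

theorem projective_stk_LFin [QuasiSeparatedSpace X] {F : EtModW.Mod Λ X} (h : LFin Λ X F) (x : X) :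
    Projective ((stk Λ x).obj F) := by
  obtain ⟨m, W, hW, ⟨e⟩⟩ := h
  have h1 := projective_biproduct (fun j => (stk Λ x).obj (LM Λ (W j))) fun j => by
      have := hW j
      exact projective_stk_LM (W j) x
  have e1 : (stk Λ x).obj (⨁ fun j => LM Λ (W j)) ≅ ⨁ fun j => (stk Λ x).obj (LM Λ (W j)) :=
    (stk Λ x).mapBiproduct _
  exact Projective.of_iso ((stk Λ x).mapIso e ≪≫ e1).symm h1

end Stalks

theorem flat_of_projective_stk {Λ : Type (u + 1)} [CommRing Λ] {X : Scheme.{u}} {F : EtModW.Mod Λ X}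
    (h : ∀ x : X, Projective ((stk Λ x).obj F)) : IsFl F :=
  flat_of_stk fun x => flat_of_projective _ (h x)

variable [HasDerivedCategory.{u + 1} (EtModW.Mod Λ X)]
  [HasCoproducts.{u + 1} (DerivedCategory (EtModW.Mod Λ X))] [IsNoetherian X]

theorem isCompact_of_bounded (h : HCD Λ X) (K : DerivedCategory (EtModW.Mod Λ X))
    (C : CochainComplex (EtModW.Mod Λ X) ℤ) (a b : ℤ) (h1 : ∀ i : ℤ, i < a ∨ b < i → IsZero (C.X i))
    (h2 : ∀ i : ℤ, EtModW.IsConstructible Λ (C.X i)) (h3 : ∀ i : ℤ, IsFl (C.X i))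
    (e : DerivedCategory.Q.obj C ≅ K) : CohDer.IsCompactObject K := by
  have h4 := cc_of_bounded C a b h1 fun i => Devi.cp_of_constructible_flat h (C.X i) (h2 i) (h3 i)
  exact (CC (DerivedCategory (EtModW.Mod Λ X))).prop_of_iso e h4

omit [IsNoetherianRing Λ] [AlgebraicGeometry.IsNoetherian X] in
/-- Compact objects are retracts of bounded complexes of finite sums of sheaves `Λ[U]`. -/
theorem exists_retract_LFin [QuasiSeparatedSpace X] (K : DerivedCategory (EtModW.Mod Λ X))
    (hK : CohDer.IsCompactObject K) :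
    ∃ (L : CochainComplex (EtModW.Mod Λ X) ℤ) (a b : ℤ), (∀ i : ℤ, i < a ∨ b < i → IsZero (L.X i)) ∧
      (∀ i : ℤ, LFin Λ X (L.X i)) ∧ Nonempty (Retract K (DerivedCategory.Q.obj L)) := by
  have h0 : HasCoproducts.{u + 1} (EtModW.Mod Λ X) := fun ι => by
    have : HasColimitsOfSize.{u + 1, u + 1} (EtModW.Mod Λ X) := IsGrothendieckAbelian.hasColimits _
    infer_instance
  obtain ⟨L, a, b, h1, h2, h3⟩ := S9035.result (A := EtModW.Mod Λ X)
    {E | ∃ U : X.Etale, IsAffine U.left ∧ E = LM Λ U}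
    (fun F => ⟨Idx F, fam F, coprodDesc F, fun i => ⟨i.obj, i.isAffine, rfl⟩, epi_coprodDesc F⟩)
    (by
      rintro _ ⟨U, hU, rfl⟩ ι
      exact preserves_coyoneda (K571.ExtSum.preserves_ext_LM U inferInstance inferInstance ι 0)) K hK
  refine ⟨L, a, b, h1, fun i => ?_, h3⟩
  obtain ⟨n, E, hE, e⟩ := h2 i
  choose W hW hW' using hE
  obtain rfl : E = fun j => LM Λ (W j) := funext hW'
  exact ⟨n, W, hW, e⟩

/-- Compact objects are bounded complexes with constructible flat terms. -/
theorem exists_bounded (K : DerivedCategory (EtModW.Mod Λ X)) (hK : CohDer.IsCompactObject K) :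
    ∃ (C : CochainComplex (EtModW.Mod Λ X) ℤ) (a b : ℤ), (∀ i : ℤ, i < a ∨ b < i → IsZero (C.X i)) ∧
      (∀ i : ℤ, EtModW.IsConstructible Λ (C.X i) ∧ IsFl (C.X i)) ∧
      Nonempty (DerivedCategory.Q.obj C ≅ K) := by
  obtain ⟨L, a, b, h1, h2, ⟨r⟩⟩ := exists_retract_LFin K hK
  let K' : CochainComplex (EtModW.Mod Λ X) ℤ := DerivedCategory.Q.objPreimage K
  let e : DerivedCategory.Q.obj K' ≅ K := DerivedCategory.Q.objObjPreimageIso K
  have hL : coh (consM Λ X) (DerivedCategory.Q.obj L) :=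
    coh_Q_of_terms _ L (fun i => (h2 i).isConstructible)
  have hK1 : coh (consM Λ X) K := coh_of_retract _ r.i r.r r.retract hL
  have hK2 : ∀ i, EtModW.IsConstructible Λ (K'.homology i) :=
    (coh_Q_iff (consM Λ X) K').1 ((coh (consM Λ X)).prop_of_iso e.symm hK1)
  obtain ⟨F, f, hF1, hF2, hq⟩ := exists_resolution K' b hK2
    (fun i hi => exactAt_of_retract e r i (h1 i (Or.inr hi)))
  have e' : DerivedCategory.Q.obj F ≅ K := asIso (DerivedCategory.Q.map f) ≪≫ e
  have r' : Retract (DerivedCategory.Q.obj F) (DerivedCategory.Q.obj L) := (Retract.ofIso e').trans r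
  have hfl : ∀ i, IsFl (F.X i) := fun i => flat_of_projective_stk fun x => projective_stk_LFin (hF2 i) x
  have hop : EtModW.IsConstructible Λ (F.opcycles (a - 1)) ∧ IsFl (F.opcycles (a - 1)) := by
    refine ⟨?_, flat_of_projective_stk fun x => ?_⟩
    · exact (consM Λ X).prop_of_isColimit_cokernelCofork (F.opcyclesIsCokernel (a - 1 - 1) (a - 1) (by simp))
        (hF2 _).isConstructible (hF2 _).isConstructible
    · obtain ⟨s⟩ := exists_retract_opcycles_map (stk Λ x) b hF1 (fun i hi => h1 i (Or.inr hi))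
        (fun i => projective_stk_LFin (hF2 i) x) (fun i => projective_stk_LFin (h2 i) x) r' (a - 1)
        (h1 _ (Or.inl (by lia)))
      have h5 := projective_stk_LFin (hF2 (a - 1 + 1)) x
      exact s.projective
  obtain ⟨C, a', b', h6, h7, ⟨h8⟩⟩ := exists_trunc F (a - 1) b hF1
    (fun i hi => exactAt_of_retract e' r i (h1 i (Or.inl (by lia))))
    (fun M => EtModW.IsConstructible Λ M ∧ IsFl M)
    (fun e h => ⟨(consM Λ X).prop_of_iso e h.1, flat_of_iso e h.2⟩)
    (fun M hM => ⟨isConstructible_of_isZero hM, flat_of_projective_stk fun x =>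
      ((stk Λ x).map_isZero hM).projective⟩)
    (fun i => ⟨(hF2 i).isConstructible, hfl i⟩) hop
  exact ⟨C, a', b', h6, h7, ⟨h8 ≪≫ e'⟩⟩

end K571.Final
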