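import Groth.Agent.Sga4h.ModDGood
import Groth.Agent.Etcore.LamTriv
import Groth.Agent.EtModD.K733.TensPull
import Groth.Agent.Etsix.H994.CrossFun
import Mathlib.RingTheory.Flat.Basic
import Mathlib.Algebra.Category.ModuleCat.Monoidal.Basic

/-!
# Flat sheaves of `Λ`-modules on the small étale site

* `fibTensorIso`: fibre functors commute with tensor products;
* `flat_fib`: fibres of a flat sheaf are flat; `flat_of_stk`: the converse for the points `gpt x`;
* `flat_pull`: inverse images of flat sheaves are flat.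
-/

set_option autoImplicit false

universe u

open CategoryTheory CategoryTheory.Limits AlgebraicGeometry Opposite MonoidalCategory

namespace K571.Flat

open Groth.Agent.Sga4h Groth.Agent.Sga4h.ModDTensor Groth.Agent.Sga4h.EtPts Groth.Agent.Sga4h.ModDGood
  Groth.Agent.Etrest.ModCons Groth.Agent.Etsix.H994.CrossFun Groth.Agent.Sga4h.BidTens

variable {Λ : Type (u + 1)} [CommRing Λ] {X Y : Scheme.{u}}

/-- `F ⊗ -` is exact. -/
abbrev IsFl (F : EtModW.Mod Λ X) : Prop := PreservesFiniteLimits ((EtModD.tensorBi Λ X).obj F)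

theorem flat_of_iso {F G : EtModW.Mod Λ X} (e : F ≅ G) (h : IsFl F) : IsFl G :=
  preservesFiniteLimits_of_natIso ((EtModD.tensorBi Λ X).mapIso e)

section Point

variable (Φ : GrothendieckTopology.Point.{u} X.smallEtaleTopology)

attribute [local instance] preservesBinaryBiproducts_of_preservesBinaryCoproducts

variable (Λ) in
/-- The fibre functor at a point. -/
noncomputable abbrev fib : EtModW.Mod Λ X ⥤ ModuleCat.{u + 1} Λ := Φ.sheafFiber

/-- The fibre of a tensor product of sheaves of modules. -/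
noncomputable def fibTensorIso (F : EtModW.Mod Λ X) :
    (EtModD.tensorBi Λ X).flip.obj F ⋙ fib Λ Φ ≅ fib Λ Φ ⋙ tensorRight ((fib Λ Φ).obj F) :=
  NatIso.ofComponents (fun G =>
    (Φ.presheafToSheafCompSheafFiberIso (ModuleCat.{u + 1} Λ)).app
      (((inc Λ X).obj G : PMod Λ X) ⊗ (inc Λ X).obj F) ≪≫
    (Functor.Monoidal.μIso (Φ.presheafFiber (A := ModuleCat.{u + 1} Λ)) ((inc Λ X).obj G)
      ((inc Λ X).obj F)).symm)
    (fun {G G'} g => by
      have h1 := (Φ.presheafToSheafCompSheafFiberIso (ModuleCat.{u + 1} Λ)).hom.naturality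
        (((inc Λ X).map g : (inc Λ X).obj G ⟶ (inc Λ X).obj G') ▷ ((inc Λ X).obj F : PMod Λ X))
      have h2 := Functor.OplaxMonoidal.δ_natural_left (Φ.presheafFiber (A := ModuleCat.{u + 1} Λ))
        ((inc Λ X).map g : (inc Λ X).obj G ⟶ (inc Λ X).obj G') ((inc Λ X).obj F)
      refine (Category.assoc _ _ _).symm.trans
        ((congrArg (· ≫ (Functor.Monoidal.μIso (Φ.presheafFiber (A := ModuleCat.{u + 1} Λ)) ((inc Λ X).obj G')
          ((inc Λ X).obj F)).inv) h1).trans ((Category.assoc _ _ _).trans ?_))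
      refine Eq.trans ?_ (Category.assoc _ _ _).symm
      exact congrArg ((Φ.presheafToSheafCompSheafFiberIso (ModuleCat.{u + 1} Λ)).hom.app
        (((inc Λ X).obj G : PMod Λ X) ⊗ (inc Λ X).obj F) ≫ ·) h2.symm)

/-- Fibres of flat sheaves are flat. -/
theorem flat_fib {F : EtModW.Mod Λ X} (h : IsFl F) : Module.Flat Λ ((fib Λ Φ).obj F) := by
  rw [Module.Flat.iff_rTensor_preserves_injective_linearMap'.{u + 1}]
  intro N N' _ _ _ _ f hf
  let g : ModuleCat.of Λ N ⟶ ModuleCat.of Λ N' := ModuleCat.ofHom f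
  have hg : Mono g := (ModuleCat.mono_iff_injective g).2 hf
  let c := constantSheaf X.smallEtaleTopology (ModuleCat.{u + 1} Λ)
  have h0 : Mono ((Functor.const X.Etaleᵒᵖ).map g) :=
    @NatTrans.mono_of_mono_app _ _ _ _ _ _ _ (fun _ => hg)
  have h1 : Mono (c.map g) :=
    inferInstanceAs (Mono ((presheafToSheaf X.smallEtaleTopology (ModuleCat.{u + 1} Λ)).map
      ((Functor.const X.Etaleᵒᵖ).map g)))
  have h2 : PreservesFiniteLimits ((EtModD.tensorBi Λ X).flip.obj F) :=
    preservesFiniteLimits_of_natIso (flipObjIso F).symm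
  have h3 : Mono ((fib Λ Φ).map (((EtModD.tensorBi Λ X).flip.obj F).map (c.map g))) := by
    have h6 : Mono (((EtModD.tensorBi Λ X).flip.obj F).map (c.map g)) := inferInstance
    have h7 : PreservesFiniteLimits (fib Λ Φ) := inferInstance
    infer_instance
  have h4 : Mono ((tensorRight ((fib Λ Φ).obj F)).map ((fib Λ Φ).map (c.map g))) :=
    ((MorphismProperty.monomorphisms _).arrow_mk_iso_iff
      ((Functor.mapArrowFunctor _ _ |>.mapIso (fibTensorIso Φ F)).app (Arrow.mk (c.map g)))).1 h3
  have h5 : Mono ((tensorRight ((fib Λ Φ).obj F)).map g) :=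
    ((MorphismProperty.monomorphisms _).arrow_mk_iso_iff
      ((Functor.mapArrowFunctor _ _ |>.mapIso (Functor.isoWhiskerRight
        (Groth.Agent.Etcore.LamTriv.fiberConst (J := X.smallEtaleTopology) (A := ModuleCat.{u + 1} Λ) Φ)
        (tensorRight ((fib Λ Φ).obj F)))).app (Arrow.mk g))).1 h4
  exact (ModuleCat.mono_iff_injective _).1 h5

end Point

/-- A sheaf with flat stalks is flat. -/
theorem flat_of_stk {F : EtModW.Mod Λ X} (h : ∀ x : X, Module.Flat Λ ((stk Λ x).obj F)) : IsFl F := by
  have key : PreservesFiniteLimits ((EtModD.tensorBi Λ X).flip.obj F) := by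
    rw [Functor.preservesFiniteLimits_iff_forall_exact_map_and_mono]
    intro S hS
    refine ⟨(hS.exact.map_of_epi_of_preservesCokernel _ hS.epi_g inferInstance), ?_⟩
    have := hS.mono_f
    have h1 : ∀ x, Mono ((stk Λ x).map (((EtModD.tensorBi Λ X).flip.obj F).map S.f)) := by
      intro x
      have h2 : Mono ((stk Λ x).map S.f) := inferInstance
      have h3 : Mono ((tensorRight ((stk Λ x).obj F)).map ((stk Λ x).map S.f)) := by
        rw [ModuleCat.mono_iff_injective] at h2 ⊢
        exact Module.Flat.rTensor_preserves_injective_linearMap _ h2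
      exact ((MorphismProperty.monomorphisms _).arrow_mk_iso_iff
        ((Functor.mapArrowFunctor _ _ |>.mapIso (stkTensorIso x F)).app (Arrow.mk S.f))).2 h3
    exact (stk_jointly Λ X).mono _
  exact preservesFiniteLimits_of_natIso (flipObjIso F)

section Pull

variable (f : Y ⟶ X)

/-- Inverse images of flat sheaves are flat. -/
theorem flat_pull {F : EtModW.Mod Λ X} (h : IsFl F) : IsFl ((EtModW.pull Λ f).obj F) := by
  refine flat_of_stk fun y => ?_
  have h1 := flat_fib (below f y) h
  let e : (stk Λ y).obj ((EtModW.pull Λ f).obj F) ≅ (fib Λ (below f y)).obj F :=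
    (((gpt y).sheafFiberComapIso (EtCoh.bc f) (EtCoh.coverPreserving_bc f) (ModuleCat.{u + 1} Λ)).symm).app F
  exact Module.Flat.of_linearEquiv e.toLinearEquiv

end Pull

end K571.Flat
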