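import Groth.Agent.EtModD.K571.Closed
import Groth.Agent.EtModD.K571.Flat
import Groth.Agent.EtModD.K733.Lift
import Groth.Agent.EtModD.K733.TensCons
import Groth.Agent.Etcore.Cover
import Groth.Agent.Sga4h.ModDUnit
import Groth.Agent.Sga4h.ModPointCons
import Groth.Agent.Sga4h.ModConstFT
import Mathlib.Algebra.Category.ModuleCat.Biproducts

/-!
# Compactness of flat locally constant constructible sheaves

`i : Z ⟶ X` a closed immersion, `j : W ⟶ Z` an open immersion, `L` a flat sheaf of `Λ`-modules on `W` which becomes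
constant, with values in a finite projective module, on an étale cover `V` of `W`.

* `retract_const`, `retract_tensor_LM`: `L ⊗ Λ[U]` is a direct summand of `Λ[U]^n` if `L` is constant on `U`;
* `exists_epi_factor`: constructible sheaves are quotients of finite sums of `Λ[U]`, with `U` affine and mapping to `V`;
* `cp_push_ext`: `i_* j_! L` is compact.
-/

set_option autoImplicit false

universe u

open CategoryTheory CategoryTheory.Limits AlgebraicGeometry Opposite CategoryTheory.Abelian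

namespace K571.Lcc

open K571.Cpt K571.Closed K571.Flat Groth.Agent Groth.Agent.Etcore Groth.Agent.Etcore.LFree Groth.Agent.Sga4h
  Groth.Agent.Sga4h.ModRestr Groth.Agent.Etrest Groth.Agent.Etrest.ModAb

attribute [local instance] Abelian.hasFiniteBiproducts
attribute [local instance 5000] CategoryTheory.Abelian.toPreadditive
  CategoryTheory.Preadditive.preadditiveHasZeroMorphisms

variable {Λ : Type (u + 1)} [CommRing Λ]

section Const

variable {X : Scheme.{u}}

/-- A constant sheaf with finite projective values is a direct summand of a finite sum of copies of `Λ`. -/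
theorem retract_const (M : Type (u + 1)) [AddCommGroup M] [Module Λ M] [Module.Finite Λ M] [Module.Projective Λ M] :
    ∃ n : ℕ, Nonempty (Retract (EtModW.constMod Λ X M) (⨁ fun _ : Fin n => EtModW.constMod Λ X Λ)) := by
  obtain ⟨n, f, hf⟩ := Module.Finite.exists_fin' Λ M
  obtain ⟨s, hs⟩ := Module.projective_lifting_property f LinearMap.id hf
  let r : Retract (ModuleCat.of Λ M) (ModuleCat.of Λ (Fin n → Λ)) :=
    { i := ModuleCat.ofHom s
      r := ModuleCat.ofHom f
      retract := by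
        rw [← ModuleCat.ofHom_comp, hs]
        rfl }
  let c := constantSheaf X.smallEtaleTopology (ModuleCat.{u + 1} Λ)
  have hc : c.Additive := inferInstance
  let e : c.obj (ModuleCat.of Λ (Fin n → Λ)) ≅ ⨁ fun _ : Fin n => EtModW.constMod Λ X Λ :=
    c.mapIso (ModuleCat.biproductIsoPi (fun _ : Fin n => ModuleCat.of Λ Λ)).symm ≪≫
      c.mapBiproduct (fun _ : Fin n => ModuleCat.of Λ Λ)
  exact ⟨n, ⟨(r.map c).trans (Retract.ofIso e)⟩⟩

/-- `L ⊗ Λ[U]` is a direct summand of a finite sum of copies of `Λ[U]` if `L` is constant on `U` with finite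
projective values. -/
theorem retract_tensor_LM (L : EtModW.Mod Λ X) (U : X.Etale) (M : Type (u + 1)) [AddCommGroup M] [Module Λ M]
    [Module.Finite Λ M] [Module.Projective Λ M]
    (e : (EtModW.pull Λ U.hom).obj L ≅ EtModW.constMod Λ U.left M) :
    ∃ n : ℕ, Nonempty (Retract (((EtModD.tensorBi Λ X).obj L).obj (LM Λ U)) (⨁ fun _ : Fin n => LM Λ U)) := by
  let p : U.left ⟶ X := U.hom
  have hp : Etale p := U.prop
  obtain ⟨n, ⟨r⟩⟩ := retract_const (Λ := Λ) (X := U.left) M
  obtain ⟨e1⟩ := K733.EtModBase.nonempty_LM_iso_ext (Λ := Λ) p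
  let e2 : ((EtModD.tensorBi Λ X).obj L).obj (LM Λ U) ≅ (ext Λ p).obj (EtModW.constMod Λ U.left M) :=
    ExtFree.symm (LM Λ U) L ≪≫ (K733.TensCons.LMTensorIso Λ U).app L ≪≫
      (ext Λ p).mapIso ((Sga5.H861.Support.pullResIso (Λ := Λ) p).symm.app L ≪≫ e)
  let e3 : (ext Λ p).obj (⨁ fun _ : Fin n => EtModW.constMod Λ U.left Λ) ≅ ⨁ fun _ : Fin n => LM Λ U :=
    (ext Λ p).mapBiproduct _ ≪≫ biproduct.mapIso fun _ => e1.symm
  exact ⟨n, ⟨((Retract.ofIso e2).trans (r.map (ext Λ p))).trans (Retract.ofIso e3)⟩⟩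

end Const

section Epi

open Groth.Agent.Etbase Groth.Agent.EtpbcA Groth.Agent.Etcore.LVan Groth.Agent.Etcore.LFreeGen
  K733.EtModBase

variable {W : Scheme.{u}}

/-- Constructible sheaves are quotients of finite sums of `Λ[U]`, with `U` affine and mapping to a given étale
cover `V`. -/
theorem exists_epi_factor [CompactSpace W] [QuasiSeparatedSpace W] [IsNoetherianRing Λ] (V : W.Etale)
    (hV : Function.Surjective V.hom) {B : EtModW.Mod Λ W} (hB : EtModW.IsConstructible Λ B) :
    ∃ (m : ℕ) (U : Fin m → W.Etale) (_ : ∀ j, IsAffine (U j).left) (_ : ∀ j, Nonempty (U j ⟶ V))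
      (w : (⨁ fun j => LM Λ (U j)) ⟶ B), Epi w := by
  obtain ⟨n, U, hU, s, hs⟩ := LPres.exists_generators hB
  have h0 : ∀ (i : Fin n) (x : (U i).left), ∃ (T : W.Etale) (_ : IsAffine T.left) (g : T ⟶ U i)
      (_ : Nonempty (T ⟶ V)) (t : T.left), g.left t = x := by
    intro i x
    obtain ⟨v, hv⟩ := hV ((U i).hom x)
    obtain ⟨T, a, b, z, hz, -⟩ := Cover.exists_common (U i) V x v hv.symm
    obtain ⟨T', k, w, hT', hw, -⟩ := exists_affine_nhd T z
    refine ⟨T', hT', k ≫ a, ⟨k ≫ b⟩, w, ?_⟩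
    rw [← hz, ← hw]
    rfl
  choose T hT g hTV w hw using h0
  have hcov : ∀ i, ∃ t : Finset (U i).left, ∀ x : (U i).left, ∃ y ∈ t, x ∈ Set.range (g i y).left := by
    intro i
    have := hU i
    have hcomp : CompactSpace (U i).left := inferInstance
    obtain ⟨t, ht⟩ := isCompact_univ.elim_finite_subcover (fun y : (U i).left => Set.range (g i y).left)
      (fun y => by
        have : Etale (g i y).left := inferInstance
        exact (g i y).left.isOpenMap.isOpen_range)
      (fun x _ => Set.mem_iUnion.2 ⟨x, w i x, hw i x⟩)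
    exact ⟨t, fun x => by
      obtain ⟨y, hy, hx⟩ := Set.mem_iUnion₂.1 (ht (Set.mem_univ x))
      exact ⟨y, hy, hx⟩⟩
  choose t ht using hcov
  obtain ⟨m, ⟨e⟩⟩ := Finite.exists_equiv_fin (Σ i : Fin n, {y // y ∈ t i})
  let T' : Fin m → W.Etale := fun j => T (e.symm j).1 (e.symm j).2.1
  let b : ∀ j, EtModW.sect Λ B (T' j) := fun j => res B (g (e.symm j).1 (e.symm j).2.1) (s (e.symm j).1)
  refine ⟨m, T', fun j => hT _ _, fun j => hTV _ _, biproduct.desc fun j => desc (b j), ?_⟩
  refine epi_of_generates U s (fun i x => ?_) hs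
  obtain ⟨y, hy, z, hz⟩ := ht i x
  have key : ∀ (p : Σ i : Fin n, {y // y ∈ t i}) (j : Fin m) (_ : e.symm j = p)
      (z : (T p.1 p.2.1).left), LocRange (biproduct.desc (fun j => desc (b j)))
      (s p.1) ((g p.1 p.2.1).left z) := by
    rintro p j rfl z
    refine ⟨T' j, g _ _, z, ev (biproduct.ι (fun j => LM Λ (T' j)) j) (T' j) (gen Λ (T' j)), rfl, ?_⟩
    rw [← comp_ev, biproduct.ι_desc, desc_gen]
  rw [← hz]
  exact key ⟨i, ⟨y, hy⟩⟩ (e ⟨i, ⟨y, hy⟩⟩) (e.symm_apply_apply _) z

end Epi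

section Main

variable {X : Scheme.{u}} [HasDerivedCategory.{u + 1} (EtModW.Mod Λ X)]
  [HasCoproducts.{u + 1} (DerivedCategory (EtModW.Mod Λ X))] [AlgebraicGeometry.IsNoetherian X] [IsNoetherianRing Λ]
  {Z W : Scheme.{u}} (i : Z ⟶ X) [IsClosedImmersion i] (j : W ⟶ Z) [IsOpenImmersion j]

omit [HasDerivedCategory.{u + 1} (EtModW.Mod Λ X)]
  [HasCoproducts.{u + 1} (DerivedCategory (EtModW.Mod Λ X))] [AlgebraicGeometry.IsNoetherian X]
  [IsNoetherianRing Λ] in
include i j in
theorem finCd_of_etale (h : HCD Λ X) {U : Scheme.{u}} (p : U ⟶ W) [Etale p] [IsSeparated p] : FinCd Λ U := by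
  have h1 : LocallyQuasiFinite p := Desc.LQF.of_etale p
  have h2 : LocallyQuasiFinite (p ≫ j ≫ i) := inferInstance
  have h3 : LocallyOfFiniteType (p ≫ j ≫ i) := inferInstance
  have h4 : IsSeparated (p ≫ j ≫ i) := inferInstance
  exact h U (p ≫ j ≫ i)

/-- `i_* j_! Λ[U]` is compact. -/
theorem cp_push_ext_LM (h : HCD Λ X) (U : W.Etale) (hU : IsAffine U.left) :
    CpA ((EtModW.push Λ i).obj ((ext Λ j).obj (LM Λ U))) := by
  obtain ⟨e⟩ := K733.EtModBase.nonempty_ext_LM (Λ := Λ) j U
  refine cpA_iso ((EtModW.push Λ i).mapIso e) ?_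
  have h0 : Etale U.hom := U.prop
  have h1 : IsSeparated U.hom := @isSeparated_of_affine U.left W U.hom hU
  obtain ⟨N, hN⟩ := @finCd_of_etale Λ _ X Z W i _ j _ h U.left U.hom h0 h1
  have h5 : IsLocallyNoetherian Z := LocallyOfFiniteType.isLocallyNoetherian i
  have h6 : IsAffine ((EtShriek.compEtale j).obj U).left := hU
  exact cp_push i h _ (LFreePull.isConstructible_LM_of_affine ((EtShriek.compEtale j).obj U)) (N + 1)
    (fun G x => ext_LM_eq_zero Λ ((EtShriek.compEtale j).obj U) hN G (N + 1) (by omega) x)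

open scoped Groth.Agent.Sga4h.ModInst in
/-- `i_* j_! L` is compact for `L` flat, constant with finite projective values on an étale cover. -/
theorem cp_push_ext (h : HCD Λ X) (L : EtModW.Mod Λ W) (hL : IsFl L) (V : W.Etale)
    (hV : Function.Surjective V.hom) (M : Type (u + 1)) [AddCommGroup M] [Module Λ M]
    [Module.Finite Λ M] [Module.Projective Λ M]
    (e : (EtModW.pull Λ V.hom).obj L ≅ EtModW.constMod Λ V.left M) :
    CpA ((EtModW.push Λ i).obj ((ext Λ j).obj L)) := by
  have h1 := Sga5.H861.Support.preservesFiniteColimits_push (Λ := Λ) i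
  have h2 := Sga5.H861.Support.preservesFiniteLimits_push (Λ := Λ) i
  have h3 := Sga5.H861.Support.additive_push (Λ := Λ) i
  have h5 : IsLocallyNoetherian Z := LocallyOfFiniteType.isLocallyNoetherian i
  have h6 : CompactSpace Z := QuasiCompact.compactSpace_of_compactSpace i
  have h7 : AlgebraicGeometry.IsNoetherian Z := {}
  have h8 : IsLocallyNoetherian W := LocallyOfFiniteType.isLocallyNoetherian j
  have h9 : CompactSpace W := QuasiCompact.compactSpace_of_compactSpace j
  have h10 : QuasiSeparatedSpace W := inferInstance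
  let Ψ : EtModW.Mod Λ W ⥤ EtModW.Mod Λ X := ext Λ j ⋙ EtModW.push Λ i
  have hΨ1 : Ψ.Additive := inferInstance
  have hΨ2 : PreservesFiniteLimits Ψ := comp_preservesFiniteLimits _ _
  have hΨ3 : PreservesFiniteColimits Ψ := comp_preservesFiniteColimits _ _
  let T : EtModW.Mod Λ W ⥤ EtModW.Mod Λ W := (EtModD.tensorBi Λ W).obj L
  have hT1 : T.Additive := EtModD.additive_tensorBi_obj Λ W L
  have hT2 : PreservesFiniteLimits T := hL
  have hT3 : PreservesFiniteColimits T := Etsix.H994.CrossFun.preservesFiniteColimits_tensorBi_obj Λ W L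
  let Φ : EtModW.Mod Λ W ⥤ EtModW.Mod Λ X := T ⋙ Ψ
  have hΦ1 : Φ.Additive := inferInstance
  have hΦ2 : PreservesFiniteLimits Φ := comp_preservesFiniteLimits _ _
  have hΦ3 : PreservesFiniteColimits Φ := comp_preservesFiniteColimits _ _
  obtain ⟨N, hN⟩ := finCd_of_etale (Λ := Λ) i j h (𝟙 W)
  have key : CpA (Φ.obj (EtModW.constMod Λ W Λ)) := by
    refine cpA_map_of_res Φ
      (fun E => ∃ (m : ℕ) (U : Fin m → W.Etale), (∀ k, IsAffine (U k).left) ∧ (∀ k, Nonempty (U k ⟶ V)) ∧
        Nonempty (E ≅ ⨁ fun k => LM Λ (U k)))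
      (fun F => EtModW.IsConstructible Λ F) ?_ ?_ (N + 1) _ ?_ ?_
    · intro G hG
      obtain ⟨m, U, hU, hUV, p, hp⟩ := exists_epi_factor V hV hG
      refine ⟨kernel p, _, kernel.ι p, p, kernel.condition p, ?_, ⟨m, U, hU, hUV, ⟨Iso.refl _⟩⟩, ?_⟩
      · exact { exact := ShortComplex.exact_kernel _, mono_f := inferInstance, epi_g := hp }
      · refine LamSerre.isConstructible_kernel p ?_
        refine K733.EtModBase.isConstructible_biproduct _ fun k => ?_
        have := hU k
        exact LFreePull.isConstructible_LM_of_affine (U k)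
    · rintro E ⟨m, U, hU, hUV, ⟨e1⟩⟩
      refine cpA_iso (Φ.mapIso e1 ≪≫ Φ.mapBiproduct _).symm (cpA_biproduct _ fun k => ?_)
      obtain ⟨g⟩ := hUV k
      have w : g.left ≫ V.hom = (U k).hom := MorphismProperty.Over.w g
      let e2 : (EtModW.pull Λ (U k).hom).obj L ≅ EtModW.constMod Λ (U k).left M :=
        (LPullComp.pullCongr Λ w).symm.app L ≪≫ (LPullComp.pullComp Λ g.left V.hom).symm.app L ≪≫
          (EtModW.pull Λ g.left).mapIso e ≪≫ ModPoint.pullConst Λ g.left (ModuleCat.of Λ M)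
      obtain ⟨n, ⟨r⟩⟩ := retract_tensor_LM L (U k) M e2
      refine cpA_retract (r.map Ψ) (cpA_iso (Ψ.mapBiproduct _).symm (cpA_biproduct _ fun _ => ?_))
      exact cp_push_ext_LM i j h (U k) (hU k)
    · exact ModConstFT.isConstructible_const Λ
    · exact fun G x => ext_const_eq_zero Λ hN G (N + 1) (by omega) x
  exact cpA_iso (Ψ.mapIso (ExtFree.symm (EtModW.constMod Λ W Λ) L ≪≫ (ModDUnit.unitIso Λ W).app L)) key

end Main

end K571.Lcc
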